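import Cfsg.Agent.Leech.Dots

/-!
# Census of minimal vectors by inner products
-/

set_option autoImplicit false
set_option maxRecDepth 100000

namespace Cfsg.Agent.Leech

open Cfsg

def WU : List (ℕ × ℕ) := [(18446744073709551612, 4), (0, 0), (0, 0), (0, 0), (0, 0), (0, 0), (0, 0), (0, 0), (0, 0), (0, 0), (0, 0), (0, 0), (0, 0), (0, 0), (0, 0), (0, 0), (0, 0), (0, 0), (0, 0), (0, 0), (0, 0), (0, 0), (0, 0), (4, 18446744073709551612)]

def WV : List (ℕ × ℕ) := [(18446744073709551615, 1), (18446744073709551615, 1), (18446744073709551615, 1), (18446744073709551615, 1), (18446744073709551615, 1), (18446744073709551615, 1), (18446744073709551615, 1), (18446744073709551615, 1), (18446744073709551615, 1), (18446744073709551615, 1), (18446744073709551615, 1), (18446744073709551615, 1), (18446744073709551615, 1), (18446744073709551615, 1), (18446744073709551615, 1), (18446744073709551615, 1), (18446744073709551615, 1), (18446744073709551615, 1), (18446744073709551615, 1), (18446744073709551615, 1), (18446744073709551615, 1), (18446744073709551615, 1),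 (18446744073709551615, 1), (18446744073709551611, 5)]

theorem census_32_16 : {x : GolayPt → ℤ | x ∈ leechLattice ∧ sqNorm x = 32 ∧ dotInt Spor.vecU' x = -16 ∧
    dotInt 0 x = 0 ∧ dotInt 0 x = 0}.ncard = 4600 :=
  count_dots3 (W := WU) (T := 18446744073709551600) (by decide +kernel) (by decide) (by decide +kernel) (by decide) (by decide +kernel)

theorem census_32_8 : {x : GolayPt → ℤ | x ∈ leechLattice ∧ sqNorm x = 32 ∧ dotInt Spor.vecU' x = -8 ∧
    dotInt 0 x = 0 ∧ dotInt 0 x = 0}.ncard = 47104 :=
  count_dots3 (W := WU) (T := 18446744073709551608) (by decide +kernel) (by decide) (by decide +kernel) (by decide) (by decide +kernel)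

theorem census_32_0 : {x : GolayPt → ℤ | x ∈ leechLattice ∧ sqNorm x = 32 ∧ dotInt Spor.vecU' x = 0 ∧
    dotInt 0 x = 0 ∧ dotInt 0 x = 0}.ncard = 93150 :=
  count_dots3 (W := WU) (T := 0) (by decide +kernel) (by decide) (by decide +kernel) (by decide) (by decide +kernel)

theorem census_48_24 : {x : GolayPt → ℤ | x ∈ leechLattice ∧ sqNorm x = 32 ∧ dotInt Spor.vecV x = 24 ∧
    dotInt 0 x = 0 ∧ dotInt 0 x = 0}.ncard = 552 :=
  count_dots3 (W := WV) (T := 24) (by decide +kernel) (by decide) (by decide +kernel) (by decide) (by decide +kernel)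

theorem census_48_16 : {x : GolayPt → ℤ | x ∈ leechLattice ∧ sqNorm x = 32 ∧ dotInt Spor.vecV x = -16 ∧
    dotInt 0 x = 0 ∧ dotInt 0 x = 0}.ncard = 11178 :=
  count_dots3 (W := WV) (T := 18446744073709551600) (by decide +kernel) (by decide) (by decide +kernel) (by decide) (by decide +kernel)

end Cfsg.Agent.Leech
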