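import Cfsg.Agent.Leech.HSPair
import Cfsg.Agent.Leech.Census

/-!
# Orders of the joint stabilisers of two vectors

`card_stab_pair_8` (McL), `card_stab_pair_16` (PSU(6,2)), `card_stab_48_16`, `card_stab_48_48` (HS).
-/

set_option autoImplicit false

namespace Cfsg.Agent.Leech

open Cfsg

theorem census32 (v : leechLattice) (hv : sqNorm (v : GolayPt → ℤ) = 32) (t : ℤ) :
    {x : leechLattice | sqNorm (x : GolayPt → ℤ) = 32 ∧ dotInt (v : GolayPt → ℤ) (x : GolayPt → ℤ) = t}.ncard =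
      {x : GolayPt → ℤ | x ∈ leechLattice ∧ sqNorm x = 32 ∧ dotInt Spor.vecU' x = t ∧ dotInt 0 x = 0 ∧
        dotInt 0 x = 0}.ncard := by
  obtain ⟨g, hg⟩ := trans_32 v Spor.leechU' hv norm_leechU'
  rw [← ncard_lattice (fun x => sqNorm x = 32 ∧ dotInt Spor.vecU' x = t ∧ dotInt 0 x = 0 ∧ dotInt 0 x = 0)]
  apply ncard_transport g
  intro x
  have h1 := co0_dot g v x
  rw [hg] at h1
  have h0 : ∀ y : GolayPt → ℤ, dotInt 0 y = 0 := fun y => by simp [dotInt]
  show (sqNorm (x : GolayPt → ℤ) = 32 ∧ dotInt (v : GolayPt → ℤ) x = t) ↔ (sqNorm ((g • x : leechLattice) : GolayPt → ℤ) = 32 ∧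
    dotInt Spor.vecU' ((g • x : leechLattice) : GolayPt → ℤ) = t ∧ dotInt 0 _ = 0 ∧ dotInt 0 _ = 0)
  rw [co0_norm, h0]
  have h2 : dotInt Spor.vecU' ((g • x : leechLattice) : GolayPt → ℤ) = dotInt (v : GolayPt → ℤ) x := h1
  rw [h2]
  simp

theorem census48 (u : leechLattice) (hu : sqNorm (u : GolayPt → ℤ) = 48) (t : ℤ) :
    {x : leechLattice | sqNorm (x : GolayPt → ℤ) = 32 ∧ dotInt (u : GolayPt → ℤ) (x : GolayPt → ℤ) = t}.ncard =
      {x : GolayPt → ℤ | x ∈ leechLattice ∧ sqNorm x = 32 ∧ dotInt Spor.vecV x = t ∧ dotInt 0 x = 0 ∧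
        dotInt 0 x = 0}.ncard := by
  obtain ⟨g, hg⟩ := trans_48 u Spor.leechV hu norm_leechV
  rw [← ncard_lattice (fun x => sqNorm x = 32 ∧ dotInt Spor.vecV x = t ∧ dotInt 0 x = 0 ∧ dotInt 0 x = 0)]
  apply ncard_transport g
  intro x
  have h1 := co0_dot g u x
  rw [hg] at h1
  have h0 : ∀ y : GolayPt → ℤ, dotInt 0 y = 0 := fun y => by simp [dotInt]
  show (sqNorm (x : GolayPt → ℤ) = 32 ∧ dotInt (u : GolayPt → ℤ) x = t) ↔ (sqNorm ((g • x : leechLattice) : GolayPt → ℤ) = 32 ∧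
    dotInt Spor.vecV ((g • x : leechLattice) : GolayPt → ℤ) = t ∧ dotInt 0 _ = 0 ∧ dotInt 0 _ = 0)
  rw [co0_norm, h0]
  have h2 : dotInt Spor.vecV ((g • x : leechLattice) : GolayPt → ℤ) = dotInt (u : GolayPt → ℤ) x := h1
  rw [h2]
  simp

theorem census32_m16 (v : leechLattice) (hv : sqNorm (v : GolayPt → ℤ) = 32) :
    {x : leechLattice | sqNorm (x : GolayPt → ℤ) = 32 ∧ dotInt (v : GolayPt → ℤ) (x : GolayPt → ℤ) = -16}.ncard =
      4600 := by rw [census32 v hv]; exact census_32_16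

theorem census32_m8 (v : leechLattice) (hv : sqNorm (v : GolayPt → ℤ) = 32) :
    {x : leechLattice | sqNorm (x : GolayPt → ℤ) = 32 ∧ dotInt (v : GolayPt → ℤ) (x : GolayPt → ℤ) = -8}.ncard =
      47104 := by rw [census32 v hv]; exact census_32_8

theorem census32_0 (v : leechLattice) (hv : sqNorm (v : GolayPt → ℤ) = 32) :
    {x : leechLattice | sqNorm (x : GolayPt → ℤ) = 32 ∧ dotInt (v : GolayPt → ℤ) (x : GolayPt → ℤ) = 0}.ncard =
      93150 := by rw [census32 v hv]; exact census_32_0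

theorem census48_24 (u : leechLattice) (hu : sqNorm (u : GolayPt → ℤ) = 48) :
    {x : leechLattice | sqNorm (x : GolayPt → ℤ) = 32 ∧ dotInt (u : GolayPt → ℤ) (x : GolayPt → ℤ) = 24}.ncard =
      552 := by rw [census48 u hu]; exact census_48_24

theorem census48_m16 (u : leechLattice) (hu : sqNorm (u : GolayPt → ℤ) = 48) :
    {x : leechLattice | sqNorm (x : GolayPt → ℤ) = 32 ∧ dotInt (u : GolayPt → ℤ) (x : GolayPt → ℤ) = -16}.ncard =
      11178 := by rw [census48 u hu]; exact census_48_16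

/-- order of a two-point stabiliser -/
theorem card_inf_stabilizer {G X : Type*} [Group G] [MulAction G X] (v w : X) (S : Set X)
    (hS : ∀ x, x ∈ S ↔ ∃ g : G, g • v = v ∧ g • w = x) :
    S.ncard * Nat.card ↥(MulAction.stabilizer G v ⊓ MulAction.stabilizer G w) = Nat.card (MulAction.stabilizer G v) := by
  have h1 : MulAction.orbit (MulAction.stabilizer G v) w = S := by
    ext x
    rw [hS]
    constructor
    · rintro ⟨⟨g, hg⟩, rfl⟩; exact ⟨g, hg, rfl⟩
    · rintro ⟨g, hg, rfl⟩; exact ⟨⟨g, hg⟩, rfl⟩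
  rw [← orbit_mul_card (G := MulAction.stabilizer G v) w, h1]
  congr 1
  have h2 : MulAction.stabilizer (MulAction.stabilizer G v) w =
      (MulAction.stabilizer G v ⊓ MulAction.stabilizer G w).subgroupOf (MulAction.stabilizer G v) := by
    ext ⟨g, hg⟩
    rw [Subgroup.mem_subgroupOf, Subgroup.mem_inf]
    exact ⟨fun h => ⟨hg, h⟩, fun h => h.2⟩
  rw [h2]
  exact (Nat.card_congr (Subgroup.subgroupOfEquivOfLe inf_le_left).toEquiv).symm

theorem card_stab_pair_8 (v w : leechLattice) (hv : sqNorm (v : GolayPt → ℤ) = 32)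
    (hw : sqNorm (w : GolayPt → ℤ) = 32) (hd : dotInt (v : GolayPt → ℤ) (w : GolayPt → ℤ) = -8) :
    Nat.card ↥(MulAction.stabilizer Co0 v ⊓ MulAction.stabilizer Co0 w) = 898128000 := by
  have h := card_inf_stabilizer (G := Co0) v w
    {x : leechLattice | sqNorm (x : GolayPt → ℤ) = 32 ∧ dotInt (v : GolayPt → ℤ) (x : GolayPt → ℤ) = -8} (by
      intro x
      constructor
      · rintro ⟨h1, h2⟩; exact trans_32_8 v w x hv hw h1 hd h2
      · rintro ⟨g, h1, rfl⟩
        refine ⟨by rw [co0_norm, hw], ?_⟩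
        have := co0_dot g v w
        rw [h1, hd] at this
        exact this)
  rw [census32_m8 v hv, card_stab_32 v hv] at h
  omega

theorem card_stab_pair_16 (v w : leechLattice) (hv : sqNorm (v : GolayPt → ℤ) = 32)
    (hw : sqNorm (w : GolayPt → ℤ) = 32) (hd : dotInt (v : GolayPt → ℤ) (w : GolayPt → ℤ) = -16) :
    Nat.card ↥(MulAction.stabilizer Co0 v ⊓ MulAction.stabilizer Co0 w) = 9196830720 := by
  have h := card_inf_stabilizer (G := Co0) v w
    {x : leechLattice | sqNorm (x : GolayPt → ℤ) = 32 ∧ dotInt (v : GolayPt → ℤ) (x : GolayPt → ℤ) = -16} (by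
      intro x
      constructor
      · rintro ⟨h1, h2⟩; exact trans_32_16 v w x hv hw h1 hd h2
      · rintro ⟨g, h1, rfl⟩
        refine ⟨by rw [co0_norm, hw], ?_⟩
        have := co0_dot g v w
        rw [h1, hd] at this
        exact this)
  rw [census32_m16 v hv, card_stab_32 v hv] at h
  omega

theorem card_stab_48_16 (u x : leechLattice) (hu : sqNorm (u : GolayPt → ℤ) = 48)
    (hx : sqNorm (x : GolayPt → ℤ) = 32) (hd : dotInt (u : GolayPt → ℤ) (x : GolayPt → ℤ) = -16) :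
    Nat.card ↥(MulAction.stabilizer Co0 u ⊓ MulAction.stabilizer Co0 x) = 44352000 := by
  have h := card_inf_stabilizer (G := Co0) u x
    {x : leechLattice | sqNorm (x : GolayPt → ℤ) = 32 ∧ dotInt (u : GolayPt → ℤ) (x : GolayPt → ℤ) = -16} (by
      intro y
      constructor
      · rintro ⟨h1, h2⟩; exact trans_pair_48 u x u y hu hx hu h1 hd h2
      · rintro ⟨g, h1, rfl⟩
        refine ⟨by rw [co0_norm, hx], ?_⟩
        have := co0_dot g u x
        rw [h1, hd] at this
        exact this)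
  rw [census48_m16 u hu, card_stab_48 u hu] at h
  omega

theorem card_stab_48_24 (u x : leechLattice) (hu : sqNorm (u : GolayPt → ℤ) = 48)
    (hx : sqNorm (x : GolayPt → ℤ) = 32) (hd : dotInt (u : GolayPt → ℤ) (x : GolayPt → ℤ) = 24) :
    Nat.card ↥(MulAction.stabilizer Co0 u ⊓ MulAction.stabilizer Co0 x) = 898128000 := by
  have key : ∀ y : leechLattice, sqNorm (y : GolayPt → ℤ) = 32 → dotInt (u : GolayPt → ℤ) (y : GolayPt → ℤ) = 24 →
      sqNorm ((u - y : leechLattice) : GolayPt → ℤ) = 32 := by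
    intro y hy hd
    rw [AddSubgroup.coe_sub, sqNorm_sub, hu, hy, hd]; norm_num
  have h := card_inf_stabilizer (G := Co0) u x
    {x : leechLattice | sqNorm (x : GolayPt → ℤ) = 32 ∧ dotInt (u : GolayPt → ℤ) (x : GolayPt → ℤ) = 24} (by
      intro y
      constructor
      · rintro ⟨h1, h2⟩; exact trans_552 u x y hu ⟨hx, key x hx hd⟩ ⟨h1, key y h1 h2⟩
      · rintro ⟨g, h1, rfl⟩
        refine ⟨by rw [co0_norm, hx], ?_⟩
        have := co0_dot g u x
        rw [h1, hd] at this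
        exact this)
  rw [census48_24 u hu, card_stab_48 u hu] at h
  omega

/-- the stabiliser of two vectors `v, w` is that of `v, -(v + w)` -/
theorem stab_neg_add (v w : leechLattice) :
    MulAction.stabilizer Co0 v ⊓ MulAction.stabilizer Co0 w =
      MulAction.stabilizer Co0 v ⊓ MulAction.stabilizer Co0 (-(v + w)) := by
  ext g
  simp only [Subgroup.mem_inf, MulAction.mem_stabilizer_iff]
  constructor
  · rintro ⟨h1, h2⟩; exact ⟨h1, by rw [co0_neg, co0_add, h1, h2]⟩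
  · rintro ⟨h1, h2⟩
    refine ⟨h1, ?_⟩
    rw [co0_neg, co0_add, h1, neg_inj] at h2
    exact add_left_cancel h2

theorem dotInt_neg_l (x y : GolayPt → ℤ) : dotInt (-x) y = -dotInt x y := by
  unfold dotInt
  rw [← Finset.sum_neg_distrib]
  exact Finset.sum_congr rfl (fun i _ => by rw [Pi.neg_apply]; ring)

theorem dot_neg_add (v w : leechLattice) : dotInt (v : GolayPt → ℤ) ((-(v + w) : leechLattice) : GolayPt → ℤ) =
    -(sqNorm (v : GolayPt → ℤ) + dotInt (v : GolayPt → ℤ) (w : GolayPt → ℤ)) := by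
  rw [AddSubgroup.coe_neg, AddSubgroup.coe_add, dotInt_comm, dotInt_neg_l, dotInt_add_left, dotInt_self,
    dotInt_comm (w : GolayPt → ℤ)]

theorem norm_neg_add (v w : leechLattice) : sqNorm ((-(v + w) : leechLattice) : GolayPt → ℤ) =
    sqNorm (v : GolayPt → ℤ) + sqNorm (w : GolayPt → ℤ) + 2 * dotInt (v : GolayPt → ℤ) (w : GolayPt → ℤ) := by
  rw [AddSubgroup.coe_neg, sqNorm_neg, AddSubgroup.coe_add, sqNorm_add]

theorem card_stab_48_48 (v w : leechLattice) (hv : sqNorm (v : GolayPt → ℤ) = 48)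
    (hw : sqNorm (w : GolayPt → ℤ) = 48) (hd : dotInt (v : GolayPt → ℤ) (w : GolayPt → ℤ) = -32) :
    Nat.card ↥(MulAction.stabilizer Co0 v ⊓ MulAction.stabilizer Co0 w) = 44352000 := by
  rw [stab_neg_add]
  apply card_stab_48_16 v _ hv
  · rw [norm_neg_add, hv, hw, hd]; norm_num
  · rw [dot_neg_add, hv, hd]; norm_num

/-- Pairs of vectors of norm 48 with inner product -32 are permuted transitively. -/
theorem trans_pair_48_48 (v w v' w' : leechLattice) (hv : sqNorm (v : GolayPt → ℤ) = 48)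
    (hw : sqNorm (w : GolayPt → ℤ) = 48) (hv' : sqNorm (v' : GolayPt → ℤ) = 48)
    (hw' : sqNorm (w' : GolayPt → ℤ) = 48)
    (hd : dotInt (v : GolayPt → ℤ) (w : GolayPt → ℤ) = -32) (hd' : dotInt (v' : GolayPt → ℤ) (w' : GolayPt → ℤ) = -32) :
    ∃ g : Co0, g • v = v' ∧ g • w = w' := by
  obtain ⟨g, h1, h2⟩ := trans_pair_48 v (-(v + w)) v' (-(v' + w')) hv (by rw [norm_neg_add, hv, hw, hd]; norm_num)
    hv' (by rw [norm_neg_add, hv', hw', hd']; norm_num) (by rw [dot_neg_add, hv, hd]; norm_num)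
    (by rw [dot_neg_add, hv', hd']; norm_num)
  refine ⟨g, h1, ?_⟩
  rw [co0_neg, co0_add, h1, neg_inj] at h2
  exact add_left_cancel h2

end Cfsg.Agent.Leech
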