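import Cfsg.Agent.Leech.Dots

/-!
# Census of minimal vectors by two inner products
-/

set_option autoImplicit false
set_option maxRecDepth 100000

namespace Cfsg.Agent.Leech

open Cfsg

def W275 : List (ℕ × ℕ) := [(18446744073709551103, 513), (18446744073709551615, 1), (18446744073709551615, 1), (18446744073709551615, 1), (18446744073709551615, 1), (18446744073709551615, 1), (18446744073709551615, 1), (18446744073709551615, 1), (18446744073709551615, 1), (18446744073709551615, 1), (18446744073709551615, 1), (18446744073709551615, 1), (18446744073709551615, 1), (18446744073709551615, 1), (18446744073709551615, 1), (18446744073709551615, 1), (18446744073709551615, 1), (18446744073709551615, 1), (18446744073709551615, 1), (18446744073709551615, 1), (18446744073709551615, 1), (18446744073709551615, 1), (18446744073709551615, 1), (18446744073709551099, 517)]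

def W100 : List (ℕ × ℕ) := [(639, 18446744073709550977), (127, 18446744073709551489), (127, 18446744073709551489), (127, 18446744073709551489), (127, 18446744073709551489), (127, 18446744073709551489), (127, 18446744073709551489), (127, 18446744073709551489), (127, 18446744073709551489), (127, 18446744073709551489), (127, 18446744073709551489), (127, 18446744073709551489), (127, 18446744073709551489), (127, 18446744073709551489), (127, 18446744073709551489), (127, 18446744073709551489), (127, 18446744073709551489), (127, 18446744073709551489), (127, 18446744073709551489), (127, 18446744073709551489), (127, 18446744073709551489), (127, 18446744073709551489), (127, 18446744073709551489), (123, 18446744073709551493)]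

def W2025 : List (ℕ × ℕ) := [(380, 18446744073709551236), (18446744073709551488, 128), (18446744073709551488, 128), (18446744073709551488, 128), (18446744073709551488, 128), (18446744073709551488, 128), (18446744073709551488, 128), (18446744073709551488, 128), (18446744073709551488, 128), (18446744073709551488, 128), (18446744073709551488, 128), (18446744073709551488, 128), (18446744073709551488, 128), (18446744073709551488, 128), (18446744073709551488, 128), (18446744073709551488, 128), (18446744073709551488, 128), (18446744073709551488, 128), (18446744073709551488, 128), (18446744073709551488, 128), (18446744073709551488, 128), (18446744073709551488, 128), (18446744073709551488, 128), (18446744073709551484, 132)]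

theorem census_275 : {x : GolayPt → ℤ | x ∈ leechLattice ∧ sqNorm x = 32 ∧ dotInt Spor.vecV x = 24 ∧
    dotInt (-Spor.vecU) x = 16 ∧ dotInt 0 x = 0}.ncard = 275 :=
  count_dots3 (W := W275) (T := 2072) (by decide +kernel) (by decide) (by decide +kernel) (by decide) (by decide +kernel)

theorem census_100 : {x : GolayPt → ℤ | x ∈ leechLattice ∧ sqNorm x = 32 ∧ dotInt Spor.vecV x = 24 ∧
    dotInt (-Spor.vecU' - Spor.vecV) x = -24 ∧ dotInt 0 x = 0}.ncard = 100 :=
  count_dots3 (W := W100) (T := 18446744073709548568) (by decide +kernel) (by decide) (by decide +kernel) (by decide) (by decide +kernel)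

theorem census_352 : {x : GolayPt → ℤ | x ∈ leechLattice ∧ sqNorm x = 32 ∧ dotInt Spor.vecV x = 16 ∧
    dotInt (-Spor.vecU' - Spor.vecV) x = -24 ∧ dotInt 0 x = 0}.ncard = 352 :=
  count_dots3 (W := W100) (T := 18446744073709548560) (by decide +kernel) (by decide) (by decide +kernel) (by decide) (by decide +kernel)

theorem census_2025 : {x : GolayPt → ℤ | x ∈ leechLattice ∧ sqNorm x = 32 ∧ dotInt (-Spor.vecU) x = 0 ∧
    dotInt (Spor.vecV + Spor.vecU) x = 16 ∧ dotInt 0 x = 0}.ncard = 2025 :=
  count_dots3 (W := W2025) (T := 2048) (by decide +kernel) (by decide) (by decide +kernel) (by decide) (by decide +kernel)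

end Cfsg.Agent.Leech
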