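import Cfsg.Agent.Leech.McLDat2
import Cfsg.Agent.Leech.HSDat2
import Cfsg.Agent.Leech.HSDat3
import Cfsg.Agent.Leech.Census2

/-!
# The actions of McL on 275 and 2025 points and of HS on 100 and 11178 points, standard configurations
-/

set_option autoImplicit false

namespace Cfsg.Agent.Leech

open Cfsg

/-- the base point and the orbits -/
def optO (S : Subgroup Co0) (x0 : leechLattice) {ι : Type} (p : ι → leechLattice) (o : Option ι) : Set leechLattice :=
  o.elim {x0} (fun i => MulAction.orbit S (p i))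

/-- values of the dot product -/
def optT {ι : Type} (t : ι → ℤ) (o : Option ι) : ℤ := o.elim 32 t

theorem optT_inj {ι : Type} {t : ι → ℤ} (ht : Function.Injective t) (h32 : ∀ i, t i ≠ 32) : Function.Injective (optT t) := by
  intro a b hab
  cases a with
  | none => cases b with
    | none => rfl
    | some b => exact absurd hab.symm (h32 b)
  | some a => cases b with
    | none => exact absurd hab (h32 a)
    | some b => exact congrArg some (ht hab)

theorem rank_lemma {S : Subgroup Co0} {x0 : leechLattice} {T : Set leechLattice} (hfin : T.Finite) (hx0 : x0 ∈ T)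
    (hnx : sqNorm (x0 : GolayPt → ℤ) = 32) {ι : Type} [Fintype ι] (p : ι → leechLattice) (n : ι → ℕ) (t : ι → ℤ)
    (ht : Function.Injective t) (h32 : ∀ i, t i ≠ 32) (hS : S ≤ MulAction.stabilizer Co0 x0)
    (hsub : ∀ i, MulAction.orbit S (p i) ⊆ T) (hdot : ∀ i, dotInt (x0 : GolayPt → ℤ) (p i : GolayPt → ℤ) = t i)
    (hn : ∀ i, n i ≤ (MulAction.orbit S (p i)).ncard) (hT : T.ncard = 1 + ∑ i, n i) :
    (∀ i, (MulAction.orbit S (p i)).ncard = n i) ∧
      (∀ y ∈ T, y ≠ x0 → ∃ i, y ∈ MulAction.orbit S (p i)) ∧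
      ∀ i, {y | y ∈ T ∧ dotInt (x0 : GolayPt → ℤ) (y : GolayPt → ℤ) = t i} = MulAction.orbit S (p i) := by
  have hinj := optT_inj ht h32
  have hsub' : ∀ o, optO S x0 p o ⊆ T := by
    intro o
    cases o with
    | none => rintro y rfl; exact hx0
    | some i => exact hsub i
  have hf : ∀ o, ∀ y ∈ optO S x0 p o, dotInt (x0 : GolayPt → ℤ) (y : GolayPt → ℤ) = optT t o := by
    intro o y hy
    cases o with
    | none =>
      have : y = x0 := hy
      rw [this, dotInt_self, hnx]; rfl
    | some i => rw [orbit_dot hS hy, hdot]; rfl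
  have hmain := partition T hfin (optO S x0 p) (fun o => o.elim 1 n) (fun y => dotInt (x0 : GolayPt → ℤ) (y : GolayPt → ℤ)) (optT t) hinj hsub' hf
    (by
      intro o
      cases o with
      | none => exact le_of_eq (Set.ncard_singleton x0).symm
      | some i => exact hn i)
    (by rw [Fintype.sum_option]; exact hT)
  refine ⟨fun i => hmain.1 (some i), ?_, fun i => partition_class hinj hsub' hf hmain.2 (some i)⟩
  intro y hy hne
  obtain ⟨o, ho⟩ := hmain.2 y hy
  cases o with
  | none => exact absurd ho hne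
  | some i => exact ⟨i, ho⟩

theorem stab_neg {g : Co0} {v : leechLattice} (h : g • v = v) : g • (-v) = -v := by rw [co0_neg, h]

/-! ### McL -/

theorem stMcL_V : stMcL ≤ MulAction.stabilizer Co0 Spor.leechV := inf_le_left
theorem stMcL_U : stMcL ≤ MulAction.stabilizer Co0 Spor.leechU := inf_le_right
theorem stMcL_mU : stMcL ≤ MulAction.stabilizer Co0 (-Spor.leechU) := fun _ hg => stab_neg (stMcL_U hg)

theorem stMcL275_le : stMcL275 ≤ stMcL := inf_le_left
theorem stMcL2025_le : stMcL2025 ≤ stMcL := inf_le_left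

theorem T275_ncard : (T3 Spor.leechV (-Spor.leechU) 24 16).ncard = 275 := T3_count _ _ _ _ rfl rfl census_275

theorem T275_orbit : MulAction.orbit stMcL p275 = T3 Spor.leechV (-Spor.leechU) 24 16 :=
  orbit_eq_of_ge (T3_finite _ _ _ _) T275_ncard
    (orbit_subset_T3 ⟨norm_p275, by decide +kernel, by decide +kernel⟩ stMcL_V stMcL_mU) o275_ge

theorem rank_275 :
    ((MulAction.orbit stMcL275 p112).ncard = 112 ∧ (MulAction.orbit stMcL275 p162).ncard = 162) ∧
    (∀ y ∈ T3 Spor.leechV (-Spor.leechU) 24 16, y ≠ p275 → y ∈ MulAction.orbit stMcL275 p112 ∨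
      y ∈ MulAction.orbit stMcL275 p162) ∧
    {y | y ∈ T3 Spor.leechV (-Spor.leechU) 24 16 ∧ dotInt (p275 : GolayPt → ℤ) (y : GolayPt → ℤ) = 8} =
      MulAction.orbit stMcL275 p112 ∧
    {y | y ∈ T3 Spor.leechV (-Spor.leechU) 24 16 ∧ dotInt (p275 : GolayPt → ℤ) (y : GolayPt → ℤ) = 16} =
      MulAction.orbit stMcL275 p162 := by
  have h := rank_lemma (S := stMcL275) (x0 := p275) (T := T3 Spor.leechV (-Spor.leechU) 24 16) (T3_finite _ _ _ _)
    (by rw [← T275_orbit]; exact MulAction.mem_orbit_self p275) norm_p275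
    (ι := Bool) (fun b => cond b p162 p112) (fun b => cond b 162 112) (fun b => cond b 16 8)
    (by decide) (by decide) inf_le_right
    (by
      intro b
      cases b
      · exact orbit_subset_T3 ⟨norm_p112, by decide +kernel, by decide +kernel⟩ (stMcL275_le.trans stMcL_V) (stMcL275_le.trans stMcL_mU)
      · exact orbit_subset_T3 ⟨norm_p162, by decide +kernel, by decide +kernel⟩ (stMcL275_le.trans stMcL_V) (stMcL275_le.trans stMcL_mU))
    (by
      intro b
      cases b
      · show dotInt (p275 : GolayPt → ℤ) (p112 : GolayPt → ℤ) = 8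
        decide +kernel
      · show dotInt (p275 : GolayPt → ℤ) (p162 : GolayPt → ℤ) = 16
        decide +kernel)
    (by
      intro b
      cases b
      · exact o112_ge
      · exact o162_ge)
    (by rw [T275_ncard]; rfl)
  refine ⟨⟨h.1 false, h.1 true⟩, ?_, h.2.2 false, h.2.2 true⟩
  intro y hy hne
  obtain ⟨b, hb⟩ := h.2.1 y hy hne
  cases b
  · exact Or.inl hb
  · exact Or.inr hb

/-! ### HS -/

/-- `-U' - V` -/
def wHS : leechLattice := -Spor.leechU' - Spor.leechV

theorem stHS_V : stHS ≤ MulAction.stabilizer Co0 Spor.leechV := inf_le_left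
theorem stHS_U : stHS ≤ MulAction.stabilizer Co0 Spor.leechU' := inf_le_right
theorem stHS_w : stHS ≤ MulAction.stabilizer Co0 wHS := by
  intro g hg
  have h1 : g • Spor.leechV = Spor.leechV := stHS_V hg
  have h2 : g • Spor.leechU' = Spor.leechU' := stHS_U hg
  show g • wHS = wHS
  unfold wHS
  rw [co0_sub, co0_neg, h1, h2]

theorem stHS100_le : stHS100 ≤ stHS := inf_le_left

theorem T100_ncard : (T3 Spor.leechV wHS 24 (-24)).ncard = 100 := T3_count _ _ _ _ rfl rfl census_100

theorem T100_sub : MulAction.orbit stHS p100 ⊆ T3 Spor.leechV wHS 24 (-24) :=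
  orbit_subset_T3 ⟨norm_p100, by decide +kernel, by decide +kernel⟩ stHS_V stHS_w

theorem T100_orbit : MulAction.orbit stHS p100 = T3 Spor.leechV wHS 24 (-24) :=
  orbit_eq_of_ge (T3_finite _ _ _ _) T100_ncard T100_sub o100_ge

theorem T352_ncard : (T3 Spor.leechV wHS 16 (-24)).ncard = 352 := T3_count _ _ _ _ rfl rfl census_352

theorem rank_100 :
    ((MulAction.orbit stHS100 p22).ncard = 22 ∧ (MulAction.orbit stHS100 p77).ncard = 77) ∧
    (∀ y ∈ T3 Spor.leechV wHS 24 (-24), y ≠ p100 → y ∈ MulAction.orbit stHS100 p22 ∨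
      y ∈ MulAction.orbit stHS100 p77) ∧
    {y | y ∈ T3 Spor.leechV wHS 24 (-24) ∧ dotInt (p100 : GolayPt → ℤ) (y : GolayPt → ℤ) = 8} =
      MulAction.orbit stHS100 p22 ∧
    {y | y ∈ T3 Spor.leechV wHS 24 (-24) ∧ dotInt (p100 : GolayPt → ℤ) (y : GolayPt → ℤ) = 16} =
      MulAction.orbit stHS100 p77 := by
  have h := rank_lemma (S := stHS100) (x0 := p100) (T := T3 Spor.leechV wHS 24 (-24)) (T3_finite _ _ _ _)
    (by rw [← T100_orbit]; exact MulAction.mem_orbit_self p100) norm_p100
    (ι := Bool) (fun b => cond b p77 p22) (fun b => cond b 77 22) (fun b => cond b 16 8)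
    (by decide) (by decide) inf_le_right
    (by
      intro b
      cases b
      · exact orbit_subset_T3 ⟨norm_p22, by decide +kernel, by decide +kernel⟩ (stHS100_le.trans stHS_V) (stHS100_le.trans stHS_w)
      · exact orbit_subset_T3 ⟨norm_p77, by decide +kernel, by decide +kernel⟩ (stHS100_le.trans stHS_V) (stHS100_le.trans stHS_w))
    (by
      intro b
      cases b
      · show dotInt (p100 : GolayPt → ℤ) (p22 : GolayPt → ℤ) = 8
        decide +kernel
      · show dotInt (p100 : GolayPt → ℤ) (p77 : GolayPt → ℤ) = 16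
        decide +kernel)
    (by
      intro b
      cases b
      · exact o22_ge
      · exact o77_ge)
    (by rw [T100_ncard]; rfl)
  refine ⟨⟨h.1 false, h.1 true⟩, ?_, h.2.2 false, h.2.2 true⟩
  intro y hy hne
  obtain ⟨b, hb⟩ := h.2.1 y hy hne
  cases b
  · exact Or.inl hb
  · exact Or.inr hb

/-! ### The 2025 points -/

/-- `V + U` -/
def wMcL : leechLattice := Spor.leechV + Spor.leechU

theorem stMcL_w : stMcL ≤ MulAction.stabilizer Co0 wMcL := by
  intro g hg
  have h1 : g • Spor.leechV = Spor.leechV := stMcL_V hg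
  have h2 : g • Spor.leechU = Spor.leechU := stMcL_U hg
  show g • wMcL = wMcL
  unfold wMcL
  rw [co0_add, h1, h2]

theorem T2025_ncard : (T3 (-Spor.leechU) wMcL 0 16).ncard = 2025 := T3_count _ _ _ _ rfl rfl census_2025

theorem T2025_orbit : MulAction.orbit stMcL p2025 = T3 (-Spor.leechU) wMcL 0 16 :=
  orbit_eq_of_ge (T3_finite _ _ _ _) T2025_ncard
    (orbit_subset_T3 ⟨norm_p2025, by decide +kernel, by decide +kernel⟩ stMcL_mU stMcL_w) o2025_ge

theorem rank_2025 : (MulAction.orbit stMcL2025 p330).ncard = 330 ∧ (MulAction.orbit stMcL2025 p462).ncard = 462 ∧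
    (MulAction.orbit stMcL2025 p1232).ncard = 1232 := by
  have h := rank_lemma (S := stMcL2025) (x0 := p2025) (T := T3 (-Spor.leechU) wMcL 0 16) (T3_finite _ _ _ _)
    (by rw [← T2025_orbit]; exact MulAction.mem_orbit_self p2025) norm_p2025
    (ι := Option Bool) (fun o => o.elim p1232 fun b => cond b p462 p330) (fun o => o.elim 1232 fun b => cond b 462 330)
    (fun o => o.elim 8 fun b => cond b 16 0)
    (by decide) (by decide) inf_le_right
    (by
      rintro (_ | _ | _)
      · exact orbit_subset_T3 ⟨norm_p1232, by decide +kernel, by decide +kernel⟩ (stMcL2025_le.trans stMcL_mU) (stMcL2025_le.trans stMcL_w)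
      · exact orbit_subset_T3 ⟨norm_p330, by decide +kernel, by decide +kernel⟩ (stMcL2025_le.trans stMcL_mU) (stMcL2025_le.trans stMcL_w)
      · exact orbit_subset_T3 ⟨norm_p462, by decide +kernel, by decide +kernel⟩ (stMcL2025_le.trans stMcL_mU) (stMcL2025_le.trans stMcL_w))
    (by
      rintro (_ | _ | _)
      · show dotInt (p2025 : GolayPt → ℤ) (p1232 : GolayPt → ℤ) = 8
        decide +kernel
      · show dotInt (p2025 : GolayPt → ℤ) (p330 : GolayPt → ℤ) = 0
        decide +kernel
      · show dotInt (p2025 : GolayPt → ℤ) (p462 : GolayPt → ℤ) = 16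
        decide +kernel)
    (by
      rintro (_ | _ | _)
      · exact o1232_ge
      · exact o330_ge
      · exact o462_ge)
    (by rw [T2025_ncard]; rfl)
  exact ⟨h.1 (some false), h.1 (some true), h.1 none⟩

/-! ### The 11178 points -/

theorem T11178_ncard : (T3 Spor.leechV Spor.leechV (-16) (-16)).ncard = 11178 := by
  rw [← census48_m16 Spor.leechV norm_leechV]
  congr 1
  ext x
  unfold T3
  simp only [Set.mem_ofPred_eq, and_self]

theorem rank_11178 : ((MulAction.orbit stHS p352).ncard = 352 ∧ (MulAction.orbit stHS p1100).ncard = 1100 ∧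
    (MulAction.orbit stHS p4125).ncard = 4125 ∧ (MulAction.orbit stHS p5600).ncard = 5600) ∧
    (MulAction.orbit stHS p352 ⊆ T3 Spor.leechV Spor.leechV (-16) (-16) ∧ MulAction.orbit stHS p1100 ⊆ T3 Spor.leechV Spor.leechV (-16) (-16) ∧
     MulAction.orbit stHS p4125 ⊆ T3 Spor.leechV Spor.leechV (-16) (-16) ∧ MulAction.orbit stHS p5600 ⊆ T3 Spor.leechV Spor.leechV (-16) (-16)) ∧
    ∀ y ∈ T3 Spor.leechV Spor.leechV (-16) (-16), y ≠ Spor.leechU' → (y ∈ MulAction.orbit stHS p352 ∨
      y ∈ MulAction.orbit stHS p1100 ∨ y ∈ MulAction.orbit stHS p4125 ∨ y ∈ MulAction.orbit stHS p5600) := by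
  have hs : ∀ o : Bool × Bool, MulAction.orbit stHS ((fun o : Bool × Bool => cond o.1 (cond o.2 p352 p1100) (cond o.2 p4125 p5600)) o) ⊆
      T3 Spor.leechV Spor.leechV (-16) (-16) := by
    rintro ⟨_ | _, _ | _⟩
    · exact orbit_subset_T3 ⟨norm_p5600, by decide +kernel, by decide +kernel⟩ stHS_V stHS_V
    · exact orbit_subset_T3 ⟨norm_p4125, by decide +kernel, by decide +kernel⟩ stHS_V stHS_V
    · exact orbit_subset_T3 ⟨norm_p1100, by decide +kernel, by decide +kernel⟩ stHS_V stHS_V
    · exact orbit_subset_T3 ⟨norm_p352, by decide +kernel, by decide +kernel⟩ stHS_V stHS_V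
  have h := rank_lemma (S := stHS) (x0 := Spor.leechU') (T := T3 Spor.leechV Spor.leechV (-16) (-16)) (T3_finite _ _ _ _)
    ⟨norm_leechU', by decide +kernel, by decide +kernel⟩ norm_leechU'
    (ι := Bool × Bool) (fun o => cond o.1 (cond o.2 p352 p1100) (cond o.2 p4125 p5600))
    (fun o => cond o.1 (cond o.2 352 1100) (cond o.2 4125 5600))
    (fun o => cond o.1 (cond o.2 (-8) 16) (cond o.2 0 8))
    (by decide) (by decide) inf_le_right hs
    (by
      rintro ⟨_ | _, _ | _⟩
      · show dotInt (Spor.leechU' : GolayPt → ℤ) (p5600 : GolayPt → ℤ) = 8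
        decide +kernel
      · show dotInt (Spor.leechU' : GolayPt → ℤ) (p4125 : GolayPt → ℤ) = 0
        decide +kernel
      · show dotInt (Spor.leechU' : GolayPt → ℤ) (p1100 : GolayPt → ℤ) = 16
        decide +kernel
      · show dotInt (Spor.leechU' : GolayPt → ℤ) (p352 : GolayPt → ℤ) = -8
        decide +kernel)
    (by
      rintro ⟨_ | _, _ | _⟩
      · exact o5600_ge
      · exact o4125_ge
      · exact o1100_ge
      · exact o352_ge)
    (by rw [T11178_ncard]; rfl)
  refine ⟨⟨h.1 (true, true), h.1 (true, false), h.1 (false, true), h.1 (false, false)⟩,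
    ⟨hs (true, true), hs (true, false), hs (false, true), hs (false, false)⟩, ?_⟩
  intro y hy hne
  obtain ⟨⟨b, c⟩, hb⟩ := h.2.1 y hy hne
  cases b <;> cases c
  · exact Or.inr (Or.inr (Or.inr hb))
  · exact Or.inr (Or.inr (Or.inl hb))
  · exact Or.inr (Or.inl hb)
  · exact Or.inl hb

end Cfsg.Agent.Leech
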