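import Cfsg.Agent.Leech.Dots

/-!
# The stabiliser of a minimal vector: transitivity on the minimal vectors with inner product -16, -8
-/

set_option autoImplicit false

namespace Cfsg.Agent.Leech

open Cfsg

/-- the second base point -/
abbrev pz : GolayPt := some 0

theorem dotU' (w : GolayPt → ℤ) : dotInt Spor.vecU' w = 4 * (w none - w pz) := by
  have h : Spor.vecU' = (Pi.single none 4 : GolayPt → ℤ) + Pi.single pz (-4) := by
    funext p
    unfold Spor.vecU'
    rw [Pi.add_apply, Pi.single_apply, Pi.single_apply]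
    by_cases h1 : p = none
    · subst h1; simp
    · by_cases h2 : p = pz
      · subst h2; simp
      · simp [h1, h2]
  rw [h, dotInt_add_left, dotInt_comm, dot_single, dotInt_comm, dot_single]
  ring

theorem U'_none : (Spor.leechU' : GolayPt → ℤ) none = 4 := rfl
theorem U'_pz : (Spor.leechU' : GolayPt → ℤ) pz = -4 := rfl
theorem U'_other {i : GolayPt} (h1 : i ≠ none) (h2 : i ≠ pz) : (Spor.leechU' : GolayPt → ℤ) i = 0 := by
  show Spor.vecU' i = 0
  unfold Spor.vecU'
  rw [if_neg h1, if_neg h2]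

/-- five points containing the two base points and two given ones -/
theorem exists_five (k l : GolayPt) (hk : k ≠ none ∧ k ≠ pz) (hl : l ≠ none ∧ l ≠ pz) (hkl : k ≠ l) :
    ∃ x : Fin 5 → GolayPt, Function.Injective x ∧ x 0 = none ∧ x 1 = pz ∧ x 2 = k ∧ x 3 = l := by
  have hinj : Function.Injective (![none, pz, k, l] : Fin 4 → GolayPt) := by
    intro i j hij
    obtain ⟨a, b⟩ := hk
    obtain ⟨c, d⟩ := hl
    have h0 : (none : GolayPt) ≠ pz := by decide
    fin_cases i <;> fin_cases j <;> simp at hij <;> first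
      | rfl
      | exact absurd hij a
      | exact absurd hij b
      | exact absurd hij c
      | exact absurd hij d
      | exact absurd hij hkl
      | exact absurd hij h0
      | exact absurd hij.symm a
      | exact absurd hij.symm b
      | exact absurd hij.symm c
      | exact absurd hij.symm d
      | exact absurd hij.symm hkl
  obtain ⟨p, hp⟩ := exists_fifth (![none, pz, k, l] : Fin 4 → GolayPt)
  refine ⟨_, snoc_injective hinj hp, ?_, ?_, ?_, ?_⟩
  · exact Fin.snoc_castSucc (α := fun _ => GolayPt) p _ 0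
  · exact Fin.snoc_castSucc (α := fun _ => GolayPt) p _ 1
  · exact Fin.snoc_castSucc (α := fun _ => GolayPt) p _ 2
  · exact Fin.snoc_castSucc (α := fun _ => GolayPt) p _ 3

/-- Sextet involution fixing `(4,-4,0^22)` with formulas on the tetrad `{∞, 0, k, l}`. -/
theorem co2_zeta (k l : GolayPt) (hk : k ≠ none ∧ k ≠ pz) (hl : l ≠ none ∧ l ≠ pz) (hkl : k ≠ l) :
    ∃ g : Co0, g • Spor.leechU' = Spor.leechU' ∧ ∀ w : leechLattice,
      2 * ((g • w : leechLattice) : GolayPt → ℤ) none = (w : GolayPt → ℤ) none - (w : GolayPt → ℤ) pz -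
        (w : GolayPt → ℤ) k - (w : GolayPt → ℤ) l ∧
      2 * ((g • w : leechLattice) : GolayPt → ℤ) pz = (w : GolayPt → ℤ) pz - (w : GolayPt → ℤ) k -
        (w : GolayPt → ℤ) l - (w : GolayPt → ℤ) none ∧
      2 * ((g • w : leechLattice) : GolayPt → ℤ) k = (w : GolayPt → ℤ) k - (w : GolayPt → ℤ) l -
        (w : GolayPt → ℤ) none - (w : GolayPt → ℤ) pz ∧
      2 * ((g • w : leechLattice) : GolayPt → ℤ) l = (w : GolayPt → ℤ) l - (w : GolayPt → ℤ) none -
        (w : GolayPt → ℤ) pz - (w : GolayPt → ℤ) k := by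
  obtain ⟨x, hx, x0, x1, x2, x3⟩ := exists_five k l hk hl hkl
  obtain ⟨g, r, e, hg, h0, h1, h2, h3, he0, he4⟩ := exists_zeta x hx
  rw [x0, x1] at h0
  rw [x1, x2] at h1
  rw [x2, x3] at h2
  rw [x3, x0] at h3
  rw [x0] at he0
  have e1 : e pz = 1 := by rw [← h0, hg.er, he0]
  have e2 : e k = 1 := by rw [← h1, hg.er, e1]
  have e3 : e l = 1 := by rw [← h2, hg.er, e2]
  have hform : ∀ w : leechLattice,
      2 * ((g • w : leechLattice) : GolayPt → ℤ) none = (w : GolayPt → ℤ) none - (w : GolayPt → ℤ) pz -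
        (w : GolayPt → ℤ) k - (w : GolayPt → ℤ) l ∧
      2 * ((g • w : leechLattice) : GolayPt → ℤ) pz = (w : GolayPt → ℤ) pz - (w : GolayPt → ℤ) k -
        (w : GolayPt → ℤ) l - (w : GolayPt → ℤ) none ∧
      2 * ((g • w : leechLattice) : GolayPt → ℤ) k = (w : GolayPt → ℤ) k - (w : GolayPt → ℤ) l -
        (w : GolayPt → ℤ) none - (w : GolayPt → ℤ) pz ∧
      2 * ((g • w : leechLattice) : GolayPt → ℤ) l = (w : GolayPt → ℤ) l - (w : GolayPt → ℤ) none -
        (w : GolayPt → ℤ) pz - (w : GolayPt → ℤ) k := by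
    intro w
    refine ⟨?_, ?_, ?_, ?_⟩
    · rw [hg.act, he0, h0, h1, h2]; ring
    · rw [hg.act, e1, h1, h2, h3]; ring
    · rw [hg.act, e2, h2, h3, h0]; ring
    · rw [hg.act, e3, h3, h0, h1]; ring
  refine ⟨g, ?_, hform⟩
  obtain ⟨f1, f2, f3, f4⟩ := hform Spor.leechU'
  rw [U'_none, U'_pz, U'_other hk.1 hk.2, U'_other hl.1 hl.2] at f1 f2 f3 f4
  apply Subtype.ext
  funext i
  by_cases hi0 : i = none
  · rw [hi0, U'_none]; omega
  by_cases hi1 : i = pz
  · rw [hi1, U'_pz]; omega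
  by_cases hi2 : i = k
  · rw [hi2, U'_other hk.1 hk.2]; omega
  by_cases hi3 : i = l
  · rw [hi3, U'_other hl.1 hl.2]; omega
  rw [U'_other hi0 hi1]
  have h5 := hg.act Spor.leechU' i
  -- the orbit of `i` avoids the two base points
  have hr : ∀ j, j ≠ none → j ≠ pz → j ≠ k → j ≠ l → (r j ≠ none ∧ r j ≠ pz ∧ r j ≠ k ∧ r j ≠ l) := by
    intro j a b c d
    have hinj : ∀ u v, r u = r v → u = v := by
      intro u v huv
      rw [← hg.r4 u, ← hg.r4 v, huv]
    refine ⟨fun h => d (hinj _ _ (h.trans h3.symm)), fun h => a (hinj _ _ (h.trans h0.symm)),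
      fun h => b (hinj _ _ (h.trans h1.symm)), fun h => c (hinj _ _ (h.trans h2.symm))⟩
  obtain ⟨a1, b1, c1, d1⟩ := hr i hi0 hi1 hi2 hi3
  obtain ⟨a2, b2, c2, d2⟩ := hr _ a1 b1 c1 d1
  obtain ⟨a3, b3, c3, d3⟩ := hr _ a2 b2 c2 d2
  rw [U'_other hi0 hi1, U'_other a1 b1, U'_other a2 b2, U'_other a3 b3] at h5
  omega

theorem sign_aux (y : ℤ) (s : Bool) : (1 - 2 * (if xor s (decide (y < 0)) then (1 : ℤ) else 0)) * y =
    if s then -((y.natAbs : ℕ) : ℤ) else ((y.natAbs : ℕ) : ℤ) := by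
  by_cases h : y < 0
  · have h1 : ((y.natAbs : ℕ) : ℤ) = -y := by omega
    rw [h1]; cases s <;> simp [h]
  · have h1 : ((y.natAbs : ℕ) : ℤ) = y := by omega
    rw [h1]; cases s <;> simp [h]

/-- sign changes fixing `(4,-4,0^22)` with prescribed signs at two points -/
theorem co2_signs (w : leechLattice) (k l : GolayPt) (hk : k ≠ none ∧ k ≠ pz) (hl : l ≠ none ∧ l ≠ pz)
    (hkl : k ≠ l) (sk sl : Bool) : ∃ g : Co0, g • Spor.leechU' = Spor.leechU' ∧
      (∀ i, ((g • w : leechLattice) : GolayPt → ℤ) i = (w : GolayPt → ℤ) i ∨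
        ((g • w : leechLattice) : GolayPt → ℤ) i = - (w : GolayPt → ℤ) i) ∧
      ((g • w : leechLattice) : GolayPt → ℤ) none = (w : GolayPt → ℤ) none ∧
      ((g • w : leechLattice) : GolayPt → ℤ) pz = (w : GolayPt → ℤ) pz ∧
      ((g • w : leechLattice) : GolayPt → ℤ) k = (if sk then -((((w : GolayPt → ℤ) k).natAbs : ℕ) : ℤ) else ((((w : GolayPt → ℤ) k).natAbs : ℕ) : ℤ)) ∧
      ((g • w : leechLattice) : GolayPt → ℤ) l = (if sl then -((((w : GolayPt → ℤ) l).natAbs : ℕ) : ℤ) else ((((w : GolayPt → ℤ) l).natAbs : ℕ) : ℤ)) := by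
  obtain ⟨x, hx, x0, x1, x2, x3⟩ := exists_five k l hk hl hkl
  obtain ⟨c, hc, h⟩ := exists_code_signs x hx
    ![false, false, xor sk (decide ((w : GolayPt → ℤ) k < 0)), xor sl (decide ((w : GolayPt → ℤ) l < 0)), false]
  have c0 := h 0
  have c1 := h 1
  have c2 := h 2
  have c3 := h 3
  rw [x0] at c0
  rw [x1] at c1
  rw [x2] at c2
  rw [x3] at c3
  simp only [Matrix.cons_val_zero, Matrix.cons_val_one, Matrix.cons_val, Bool.false_eq_true, if_false] at c0 c1 c2 c3
  refine ⟨flipElt c hc, ?_, ?_, ?_, ?_, ?_, ?_⟩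
  · apply Subtype.ext
    funext i
    rw [flipElt_apply]
    by_cases hi0 : i = none
    · rw [hi0, c0]; ring
    by_cases hi1 : i = pz
    · rw [hi1, c1]; ring
    rw [U'_other hi0 hi1, mul_zero]
  · intro i
    rw [flipElt_apply]
    rcases lift_zero_or_one c i with h9 | h9
    · left; rw [h9]; ring
    · right; rw [h9]; ring
  · rw [flipElt_apply, c0]; ring
  · rw [flipElt_apply, c1]; ring
  · rw [flipElt_apply, c2]
    exact sign_aux _ _
  · rw [flipElt_apply, c3]
    exact sign_aux _ _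

/-- `w_∞ + w_0` can be made `|w_k| + |w_l|`. -/
theorem co2_big (w : leechLattice) (k l : GolayPt) (hk : k ≠ none ∧ k ≠ pz) (hl : l ≠ none ∧ l ≠ pz)
    (hkl : k ≠ l) : ∃ g : Co0, g • Spor.leechU' = Spor.leechU' ∧
      ((g • w : leechLattice) : GolayPt → ℤ) none + ((g • w : leechLattice) : GolayPt → ℤ) pz =
        ((((w : GolayPt → ℤ) k).natAbs : ℕ) : ℤ) + ((((w : GolayPt → ℤ) l).natAbs : ℕ) : ℤ) := by
  obtain ⟨g, hg, -, h0, h1, h2, h3⟩ := co2_signs w k l hk hl hkl true true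
  obtain ⟨g', hg', hf⟩ := co2_zeta k l hk hl hkl
  obtain ⟨f1, f2, f3, f4⟩ := hf (g • w)
  refine ⟨g' * g, by rw [mul_smul, hg, hg'], ?_⟩
  rw [mul_smul]
  rw [h0, h1, h2, h3] at f1 f2
  simp only [if_true] at f1 f2
  omega

theorem two_others {A : Finset GolayPt} (h : 4 ≤ A.card) : ∃ k ∈ A, ∃ l ∈ A, (k ≠ none ∧ k ≠ pz) ∧
    (l ≠ none ∧ l ≠ pz) ∧ k ≠ l := by
  have h1 : 2 ≤ ((A.erase none).erase pz).card := by
    have a2 := Finset.pred_card_le_card_erase (s := A) (a := none)
    have a3 := Finset.pred_card_le_card_erase (s := A.erase none) (a := pz)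
    omega
  obtain ⟨k, hk, l, hl, hkl⟩ := Finset.one_lt_card.1 h1
  simp only [Finset.mem_erase] at hk hl
  exact ⟨k, hk.2.2, l, hl.2.2, ⟨hk.2.1, hk.1⟩, ⟨hl.2.1, hl.1⟩, hkl⟩

theorem norm_ge_two {w : GolayPt → ℤ} {a b : GolayPt} (h : a ≠ b) : w a ^ 2 + w b ^ 2 ≤ sqNorm w := by
  unfold sqNorm
  rw [← Finset.add_sum_erase _ _ (Finset.mem_univ a)]
  have := Finset.single_le_sum (f := fun i => w i ^ 2) (s := Finset.univ.erase a)
    (fun j _ => sq_nonneg _) (Finset.mem_erase.2 ⟨h.symm, Finset.mem_univ b⟩)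
  exact add_le_add_right this _

/-- minimal vectors with even coordinates: either eight coordinates `±2` or two coordinates `±4` -/
theorem even_min_cases {w : leechLattice} (hn : sqNorm (w : GolayPt → ℤ) = 32)
    (he : IsEvenVec (w : GolayPt → ℤ)) :
    (cnt w 2 = 8 ∧ ∀ i, (w : GolayPt → ℤ) i = 0 ∨ (w : GolayPt → ℤ) i = 2 ∨ (w : GolayPt → ℤ) i = -2) ∨
    (cnt w 4 = 2 ∧ ∀ i, (w : GolayPt → ℤ) i = 0 ∨ (w : GolayPt → ℤ) i = 4 ∨ (w : GolayPt → ℤ) i = -4) := by
  obtain ⟨e1, e2, e3⟩ := cnt_even he (by omega)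
  rw [hn] at e2
  have hl : ∀ j, ((w : GolayPt → ℤ) j).natAbs = 0 ∨ ((w : GolayPt → ℤ) j).natAbs = 2 ∨
      ((w : GolayPt → ℤ) j).natAbs = 4 ∨ ((w : GolayPt → ℤ) j).natAbs = 6 ∨ ((w : GolayPt → ℤ) j).natAbs = 8 := by
    intro j
    have h7 := abs_le_of_norm hn (by norm_num) j
    have h8 := even_dvd he j
    omega
  by_cases h4 : cnt w 4 = 2
  · right
    refine ⟨h4, fun i => ?_⟩
    rcases hl i with h | h | h | h | h
    · omega
    · have := le_cnt (w : GolayPt → ℤ) i h; omega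
    · omega
    · have := le_cnt (w : GolayPt → ℤ) i h; omega
    · have := le_cnt (w : GolayPt → ℤ) i h; omega
  · left
    refine ⟨by omega, fun i => ?_⟩
    rcases hl i with h | h | h | h | h
    · omega
    · omega
    · have := le_cnt (w : GolayPt → ℤ) i h; omega
    · have := le_cnt (w : GolayPt → ℤ) i h; omega
    · have := le_cnt (w : GolayPt → ℤ) i h; omega

/-- minimal vectors with odd coordinates -/
theorem odd_min_cases {w : leechLattice} (hn : sqNorm (w : GolayPt → ℤ) = 32)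
    (ho : IsOddVec (w : GolayPt → ℤ)) : ∃ a, ∀ i, ((w : GolayPt → ℤ) i).natAbs = if i = a then 3 else 1 := by
  obtain ⟨e1, e2⟩ := cnt_odd ho (by omega)
  rw [hn] at e2
  have h3 : cnt w 3 = 1 := by omega
  have h5 : cnt w 5 = 0 := by omega
  have h7 : cnt w 7 = 0 := by omega
  obtain ⟨a, hset⟩ := Finset.card_eq_one.1 h3
  refine ⟨a, fun j => ?_⟩
  have h7 := abs_le_of_norm hn (by norm_num) j
  have h8 := odd_not_dvd ho j
  have h9 : ((w : GolayPt → ℤ) j).natAbs = 1 ∨ ((w : GolayPt → ℤ) j).natAbs = 3 ∨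
    ((w : GolayPt → ℤ) j).natAbs = 5 ∨ ((w : GolayPt → ℤ) j).natAbs = 7 := by omega
  have h10 : j ∈ (Finset.univ.filter fun i => ((w : GolayPt → ℤ) i).natAbs = 3) ↔ j = a := by
    rw [hset, Finset.mem_singleton]
  rw [Finset.mem_filter] at h10
  simp only [Finset.mem_univ, true_and] at h10
  split_ifs with hj
  · exact h10.2 hj
  · have h11 : ((w : GolayPt → ℤ) j).natAbs ≠ 3 := fun h => hj (h10.1 h)
    rcases h9 with h | h | h | h
    · exact h
    · exact absurd h h11
    · have := le_cnt (w : GolayPt → ℤ) j h; omega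
    · have := le_cnt (w : GolayPt → ℤ) j h; omega

theorem dot_fix {g : Co0} (hg : g • Spor.leechU' = Spor.leechU') (w : leechLattice) :
    ((g • w : leechLattice) : GolayPt → ℤ) none - ((g • w : leechLattice) : GolayPt → ℤ) pz =
      (w : GolayPt → ℤ) none - (w : GolayPt → ℤ) pz := by
  have h := co0_dot g Spor.leechU' w
  rw [hg] at h
  have h1 : 4 * (((g • w : leechLattice) : GolayPt → ℤ) none - ((g • w : leechLattice) : GolayPt → ℤ) pz) =
      4 * ((w : GolayPt → ℤ) none - (w : GolayPt → ℤ) pz) := by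
    rw [← dotU', ← dotU']; exact h
  omega

/-- two points different from the base points -/
theorem exists_two : ∃ k l : GolayPt, (k ≠ none ∧ k ≠ pz) ∧ (l ≠ none ∧ l ≠ pz) ∧ k ≠ l :=
  ⟨some 1, some 2, by decide, by decide, by decide⟩

theorem fix_mul {g h : Co0} (hg : g • Spor.leechU' = Spor.leechU') (hh : h • Spor.leechU' = Spor.leechU') :
    (g * h) • Spor.leechU' = Spor.leechU' := by rw [mul_smul, hh, hg]

/-- inner product -16: an even vector goes to one with `w_∞ + w_0 = 4` -/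
theorem m16_even {w : leechLattice} (hn : sqNorm (w : GolayPt → ℤ) = 32) (he : IsEvenVec (w : GolayPt → ℤ))
    (hd : (w : GolayPt → ℤ) none - (w : GolayPt → ℤ) pz = -4) :
    ∃ g : Co0, g • Spor.leechU' = Spor.leechU' ∧ ((g • w : leechLattice) : GolayPt → ℤ) none = 0 ∧
      ((g • w : leechLattice) : GolayPt → ℤ) pz = 4 := by
  have fin : ∀ (g : Co0) (k l : GolayPt), g • Spor.leechU' = Spor.leechU' → (k ≠ none ∧ k ≠ pz) →
      (l ≠ none ∧ l ≠ pz) → k ≠ l → (((((g • w : leechLattice) : GolayPt → ℤ) k).natAbs : ℕ) : ℤ) + (((((g • w : leechLattice) : GolayPt → ℤ) l).natAbs : ℕ) : ℤ) = 4 →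
      ∃ g : Co0, g • Spor.leechU' = Spor.leechU' ∧ ((g • w : leechLattice) : GolayPt → ℤ) none = 0 ∧
        ((g • w : leechLattice) : GolayPt → ℤ) pz = 4 := by
    intro g k l hg hk hl hkl h4
    obtain ⟨g', hg', h⟩ := co2_big (g • w) k l hk hl hkl
    have h1 := dot_fix hg' (g • w)
    have h2 := dot_fix hg w
    refine ⟨g' * g, fix_mul hg' hg, ?_, ?_⟩ <;> rw [mul_smul] <;> omega
  rcases even_min_cases hn he with ⟨h2, hv⟩ | ⟨h4, hv⟩
  · obtain ⟨k, hk, l, hl, h1, h2, h3⟩ := two_others (A := Finset.univ.filter fun i => ((w : GolayPt → ℤ) i).natAbs = 2)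
      (by show 4 ≤ cnt w 2; omega)
    rw [Finset.mem_filter] at hk hl
    apply fin 1 k l (one_smul _ _) h1 h2 h3
    rw [one_smul]
    have := hk.2
    have := hl.2
    omega
  · by_cases h0 : (w : GolayPt → ℤ) none = 0
    · exact ⟨1, one_smul _ _, by rw [one_smul]; exact h0, by rw [one_smul]; omega⟩
    · -- w none = -4, w pz = 0
      have hpz : (w : GolayPt → ℤ) pz = 0 := by
        have := hv none
        have := hv pz
        omega
      have hno : (w : GolayPt → ℤ) none = -4 := by omega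
      -- the other position of value ±4
      obtain ⟨a, b, hab, hset⟩ := Finset.card_eq_two.1 h4
      have hmem : ∀ j, ((w : GolayPt → ℤ) j).natAbs = 4 ↔ j = a ∨ j = b := by
        intro j
        have : j ∈ (Finset.univ.filter fun i => ((w : GolayPt → ℤ) i).natAbs = 4) ↔ j ∈ ({a, b} : Finset GolayPt) := by
          rw [hset]
        simpa using this
      have h5 : ∃ k, (k ≠ none ∧ k ≠ pz) ∧ ((w : GolayPt → ℤ) k).natAbs = 4 := by
        have h6 := (hmem none).1 (by omega)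
        have hpz' : ((w : GolayPt → ℤ) pz).natAbs ≠ 4 := by omega
        rcases h6 with h6 | h6
        · refine ⟨b, ⟨fun h => hab (by rw [← h6, h]), fun h => hpz' ?_⟩, (hmem b).2 (Or.inr rfl)⟩
          rw [← h]; exact (hmem b).2 (Or.inr rfl)
        · refine ⟨a, ⟨fun h => hab (by rw [← h6, h]), fun h => hpz' ?_⟩, (hmem a).2 (Or.inl rfl)⟩
          rw [← h]; exact (hmem a).2 (Or.inl rfl)
      obtain ⟨k, hk, hk4⟩ := h5
      obtain ⟨l, hl1, hl2, hl3⟩ : ∃ l : GolayPt, l ≠ none ∧ l ≠ pz ∧ k ≠ l := by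
        by_cases h : k = some 1
        · exact ⟨some 2, by decide, by decide, by rw [h]; decide⟩
        · exact ⟨some 1, by decide, by decide, h⟩
      have hl0 : (w : GolayPt → ℤ) l = 0 := by
        have h7 : ¬ ((w : GolayPt → ℤ) l).natAbs = 4 := by
          intro h8
          have h9 := (hmem l).1 h8
          have h10 := (hmem k).1 hk4
          have h11 := (hmem none).1 (by omega)
          have hk' := hk.1
          rcases h9 with h9 | h9 <;> rcases h10 with h10 | h10 <;> rcases h11 with h11 | h11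
          · exact hl3 (h10.trans h9.symm)
          · exact hl3 (h10.trans h9.symm)
          · exact hl1 (h9.trans h11.symm)
          · exact hk' (h10.trans h11.symm)
          · exact hk' (h10.trans h11.symm)
          · exact hl1 (h9.trans h11.symm)
          · exact hl3 (h10.trans h9.symm)
          · exact hl3 (h10.trans h9.symm)
        have := hv l
        omega
      apply fin 1 k l (one_smul _ _) hk ⟨hl1, hl2⟩ hl3
      rw [one_smul, hl0]
      omega

/-- inner product -16: every vector goes to one with `w_∞ = 0`, `w_0 = 4` -/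
theorem m16_all {w : leechLattice} (hn : sqNorm (w : GolayPt → ℤ) = 32)
    (hd : (w : GolayPt → ℤ) none - (w : GolayPt → ℤ) pz = -4) :
    ∃ g : Co0, g • Spor.leechU' = Spor.leechU' ∧ ((g • w : leechLattice) : GolayPt → ℤ) none = 0 ∧
      ((g • w : leechLattice) : GolayPt → ℤ) pz = 4 := by
  rcases even_or_odd w with he | ho
  · exact m16_even hn he hd
  · obtain ⟨a, ha⟩ := odd_min_cases hn ho
    obtain ⟨k, l, hk, hl, hkl⟩ := exists_two
    -- values at the base points
    have hn1 := ha none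
    have hn2 := ha pz
    have hbase : (a = none ∨ a = pz) := by
      by_contra hc
      push Not at hc
      rw [if_neg (Ne.symm hc.1)] at hn1
      rw [if_neg (Ne.symm hc.2)] at hn2
      omega
    have hak : ∀ j : GolayPt, j ≠ none → j ≠ pz → ((w : GolayPt → ℤ) j).natAbs = 1 := by
      intro j h1 h2
      rw [ha j, if_neg]
      rintro rfl
      rcases hbase with h | h
      · exact h1 h
      · exact h2 h
    have hk1 := hak k hk.1 hk.2
    have hl1 := hak l hl.1 hl.2
    obtain ⟨g, hg, -, h0, h1, h2, h3⟩ := co2_signs w k l hk hl hkl false true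
    obtain ⟨g', hg', hf⟩ := co2_zeta k l hk hl hkl
    obtain ⟨f1, f2, f3, f4⟩ := hf (g • w)
    rw [h0, h1, h2, h3] at f1 f2
    simp only [if_true, Bool.false_eq_true, if_false] at f1 f2
    have hfix := fix_mul hg' hg
    have hn' : sqNorm (((g' * g) • w : leechLattice) : GolayPt → ℤ) = 32 := by rw [co0_norm, hn]
    have he' : IsEvenVec (((g' * g) • w : leechLattice) : GolayPt → ℤ) := by
      rcases even_or_odd ((g' * g) • w) with h | h
      · exact h
      · exfalso
        have := odd_not_dvd h none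
        rw [mul_smul] at this
        have h5 : ((((w : GolayPt → ℤ) k).natAbs : ℕ) : ℤ) = 1 := by omega
        have h6 : ((((w : GolayPt → ℤ) l).natAbs : ℕ) : ℤ) = 1 := by omega
        omega
    obtain ⟨h, hh, h4, h5⟩ := m16_even hn' he' (by rw [dot_fix hfix, hd])
    exact ⟨h * (g' * g), fix_mul hh hfix, by rw [mul_smul]; exact h4, by rw [mul_smul]; exact h5⟩

/-- the standard vector with inner product -16: `(0, 4; 4 at 1)` -/
def w16 : GolayPt → ℤ := fun p => if p = pz ∨ p = some 1 then 4 else 0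

theorem w16_mem : w16 ∈ leechLattice := mem_of_test (by decide +kernel)

theorem exists_perm3 (k : GolayPt) (hk : k ≠ none ∧ k ≠ pz) : ∃ σ ∈ M24, σ none = none ∧ σ pz = pz ∧ σ k = some 1 := by
  obtain ⟨l, hl1, hl2, hl3⟩ : ∃ l : GolayPt, l ≠ none ∧ l ≠ pz ∧ k ≠ l := by
    by_cases h : k = some 1
    · exact ⟨some 2, by decide, by decide, by rw [h]; decide⟩
    · exact ⟨some 1, by decide, by decide, h⟩
  obtain ⟨x, hx, x0, x1, x2, -⟩ := exists_five k l hk ⟨hl1, hl2⟩ hl3
  obtain ⟨y, hy, y0, y1, y2, -⟩ := exists_five (some 1) (some 2) (by decide) (by decide) (by decide)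
  obtain ⟨σ, hσ, h⟩ := Golay.M24_exists_map x y hx hy
  refine ⟨σ, hσ, ?_, ?_, ?_⟩
  · have := h 0; rwa [x0, y0] at this
  · have := h 1; rwa [x1, y1] at this
  · have := h 2; rwa [x2, y2] at this

theorem perm_fix {σ : Equiv.Perm GolayPt} (hσ : σ ∈ M24) (h0 : σ none = none) (h1 : σ pz = pz) :
    permElt σ hσ • Spor.leechU' = Spor.leechU' := by
  apply Subtype.ext
  funext i
  rw [permElt_apply]
  by_cases hi0 : i = none
  · rw [hi0]; conv_lhs => rw [← h0]
    rw [Equiv.symm_apply_apply]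
  by_cases hi1 : i = pz
  · rw [hi1]; conv_lhs => rw [← h1]
    rw [Equiv.symm_apply_apply]
  rw [U'_other hi0 hi1, U'_other]
  · intro h; apply hi0; rw [← Equiv.apply_symm_apply σ i, h, h0]
  · intro h; apply hi1; rw [← Equiv.apply_symm_apply σ i, h, h1]

/-- inner product -16: every vector goes to the standard one -/
theorem m16_std {w : leechLattice} (hn : sqNorm (w : GolayPt → ℤ) = 32)
    (hd : (w : GolayPt → ℤ) none - (w : GolayPt → ℤ) pz = -4) :
    ∃ g : Co0, g • Spor.leechU' = Spor.leechU' ∧ g • w = ⟨w16, w16_mem⟩ := by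
  obtain ⟨g, hg, h1, h2⟩ := m16_all hn hd
  set z := g • w with hz
  have hzn : sqNorm (z : GolayPt → ℤ) = 32 := by rw [hz, co0_norm, hn]
  have he : IsEvenVec (z : GolayPt → ℤ) := by
    rcases even_or_odd z with h | h
    · exact h
    · exact absurd (by rw [h1]; exact dvd_zero 2) (odd_not_dvd h none)
  rcases even_min_cases hzn he with ⟨-, hv⟩ | ⟨h4, hv⟩
  · have := hv pz; omega
  obtain ⟨a, b, hab, hset⟩ := Finset.card_eq_two.1 h4
  have hmem : ∀ j, ((z : GolayPt → ℤ) j).natAbs = 4 ↔ j = a ∨ j = b := by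
    intro j
    have : j ∈ (Finset.univ.filter fun i => ((z : GolayPt → ℤ) i).natAbs = 4) ↔ j ∈ ({a, b} : Finset GolayPt) := by
      rw [hset]
    simpa using this
  have h5 : ∃ k, (k ≠ none ∧ k ≠ pz) ∧ (∀ j, ((z : GolayPt → ℤ) j).natAbs = 4 ↔ j = pz ∨ j = k) := by
    have h6 := (hmem pz).1 (by omega)
    have hno : ((z : GolayPt → ℤ) none).natAbs ≠ 4 := by omega
    rcases h6 with h6 | h6
    · refine ⟨b, ⟨fun h => hno (by rw [← h]; exact (hmem b).2 (Or.inr rfl)), fun h => hab (by rw [← h6, h])⟩, fun j => ?_⟩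
      rw [hmem, h6]
    · refine ⟨a, ⟨fun h => hno (by rw [← h]; exact (hmem a).2 (Or.inl rfl)), fun h => hab (by rw [← h6, h])⟩, fun j => ?_⟩
      rw [hmem, h6, or_comm]
  obtain ⟨k, hk, hk4⟩ := h5
  obtain ⟨l, hl1, hl2, hl3⟩ : ∃ l : GolayPt, l ≠ none ∧ l ≠ pz ∧ k ≠ l := by
    by_cases h : k = some 1
    · exact ⟨some 2, by decide, by decide, by rw [h]; decide⟩
    · exact ⟨some 1, by decide, by decide, h⟩
  obtain ⟨g', hg', gs, g0, g1, g2, -⟩ := co2_signs z k l hk ⟨hl1, hl2⟩ hl3 false false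
  obtain ⟨σ, hσ, s0, s1, s2⟩ := exists_perm3 k hk
  refine ⟨permElt σ hσ * (g' * g), fix_mul (perm_fix hσ s0 s1) (fix_mul hg' hg), ?_⟩
  rw [mul_smul, mul_smul, ← hz]
  apply Subtype.ext
  funext j
  rw [permElt_apply]
  show _ = w16 j
  unfold w16
  simp only [Bool.false_eq_true, if_false] at g2
  have hk5 := (hk4 k).2 (Or.inr rfl)
  by_cases hj1 : j = pz
  · rw [if_pos (Or.inl hj1), hj1]
    conv_lhs => rw [← s1]
    rw [Equiv.symm_apply_apply, g1, h2]
  by_cases hj2 : j = some 1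
  · rw [if_pos (Or.inr hj2), hj2]
    conv_lhs => rw [← s2]
    rw [Equiv.symm_apply_apply, g2]
    omega
  rw [if_neg (by tauto)]
  have h7 : ¬ ((z : GolayPt → ℤ) (σ.symm j)).natAbs = 4 := by
    rw [hk4]
    rintro (h | h)
    · apply hj1; rw [← Equiv.apply_symm_apply σ j, h, s1]
    · apply hj2; rw [← Equiv.apply_symm_apply σ j, h, s2]
  have h8 := hv (σ.symm j)
  have h9 : (z : GolayPt → ℤ) (σ.symm j) = 0 := by omega
  rcases gs (σ.symm j) with h | h <;> rw [h, h9] <;> rfl

/-- inner product -8: every vector goes to one with `w_∞ = 1`, `w_0 = 3` -/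
theorem m8_all {w : leechLattice} (hn : sqNorm (w : GolayPt → ℤ) = 32)
    (hd : (w : GolayPt → ℤ) none - (w : GolayPt → ℤ) pz = -2) :
    ∃ g : Co0, g • Spor.leechU' = Spor.leechU' ∧ ((g • w : leechLattice) : GolayPt → ℤ) none = 1 ∧
      ((g • w : leechLattice) : GolayPt → ℤ) pz = 3 := by
  have even : ∀ w : leechLattice, sqNorm (w : GolayPt → ℤ) = 32 → IsEvenVec (w : GolayPt → ℤ) →
      (w : GolayPt → ℤ) none - (w : GolayPt → ℤ) pz = -2 →
      ∃ g : Co0, g • Spor.leechU' = Spor.leechU' ∧ ((g • w : leechLattice) : GolayPt → ℤ) none = 1 ∧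
      ((g • w : leechLattice) : GolayPt → ℤ) pz = 3 := by
    intro w hn he hd
    rcases even_min_cases hn he with ⟨h2, hv⟩ | ⟨h4, hv⟩
    · obtain ⟨k, hk, l, hl, h1, h2, h3⟩ := two_others (A := Finset.univ.filter fun i => ((w : GolayPt → ℤ) i).natAbs = 2)
        (by show 4 ≤ cnt w 2; omega)
      rw [Finset.mem_filter] at hk hl
      obtain ⟨g', hg', h⟩ := co2_big w k l h1 h2 h3
      have h5 := dot_fix hg' w
      have := hk.2
      have := hl.2
      exact ⟨g', hg', by omega, by omega⟩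
    · have := hv none
      have := hv pz
      omega
  rcases even_or_odd w with he | ho
  · exact even w hn he hd
  · obtain ⟨a, ha⟩ := odd_min_cases hn ho
    by_cases hbase : a = none ∨ a = pz
    · have hak : ∀ j : GolayPt, j ≠ none → j ≠ pz → ((w : GolayPt → ℤ) j).natAbs = 1 := by
        intro j h1 h2
        rw [ha j, if_neg]
        rintro rfl
        rcases hbase with h | h
        · exact h1 h
        · exact h2 h
      by_cases h1 : (w : GolayPt → ℤ) none = 1
      · exact ⟨1, one_smul _ _, by rw [one_smul]; exact h1, by rw [one_smul]; omega⟩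
      · obtain ⟨k, l, hk, hl, hkl⟩ := exists_two
        obtain ⟨g', hg', h⟩ := co2_big w k l hk hl hkl
        have h5 := dot_fix hg' w
        have hk1 := hak k hk.1 hk.2
        have hl1 := hak l hl.1 hl.2
        have hn1 := ha none
        have hn2 := ha pz
        have hs : ((g' • w : leechLattice) : GolayPt → ℤ) none = 0 := by omega
        have he' : IsEvenVec ((g' • w : leechLattice) : GolayPt → ℤ) := by
          rcases even_or_odd (g' • w) with h | h
          · exact h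
          · exact absurd (by rw [hs]; exact dvd_zero 2) (odd_not_dvd h none)
        obtain ⟨g, hg, h6, h7⟩ := even (g' • w) (by rw [co0_norm, hn]) he' (by rw [h5, hd])
        exact ⟨g * g', fix_mul hg hg', by rw [mul_smul]; exact h6, by rw [mul_smul]; exact h7⟩
    · push Not at hbase
      obtain ⟨l, hl1, hl2, hl3⟩ : ∃ l : GolayPt, l ≠ none ∧ l ≠ pz ∧ a ≠ l := by
        by_cases h : a = some 1
        · exact ⟨some 2, by decide, by decide, by rw [h]; decide⟩
        · exact ⟨some 1, by decide, by decide, h⟩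
      obtain ⟨g', hg', h⟩ := co2_big w a l hbase ⟨hl1, hl2⟩ hl3
      have h5 := dot_fix hg' w
      have h6 := ha a
      have h7 := ha l
      rw [if_pos rfl] at h6
      rw [if_neg (Ne.symm hl3)] at h7
      exact ⟨g', hg', by omega, by omega⟩

/-- the standard vector with inner product -8 up to signs -/
theorem m8_std {w w' : leechLattice} (hn : sqNorm (w : GolayPt → ℤ) = 32)
    (hd : (w : GolayPt → ℤ) none - (w : GolayPt → ℤ) pz = -2) (hn' : sqNorm (w' : GolayPt → ℤ) = 32)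
    (hd' : (w' : GolayPt → ℤ) none - (w' : GolayPt → ℤ) pz = -2) :
    ∃ g : Co0, g • Spor.leechU' = Spor.leechU' ∧ g • w = w' := by
  have key : ∀ w : leechLattice, sqNorm (w : GolayPt → ℤ) = 32 →
      (w : GolayPt → ℤ) none - (w : GolayPt → ℤ) pz = -2 → ∃ g : Co0, ∃ c, ∃ hc : c ∈ golayCode,
        g • Spor.leechU' = Spor.leechU' ∧ lift c none = 0 ∧ lift c pz = 1 ∧
        ∀ i, ((flipElt c hc • g • w : leechLattice) : GolayPt → ℤ) i = if i = pz then -3 else 1 := by
    intro w hn hd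
    obtain ⟨g, hg, h1, h2⟩ := m8_all hn hd
    set z := g • w with hz
    have hzn : sqNorm (z : GolayPt → ℤ) = 32 := by rw [hz, co0_norm, hn]
    have ho : IsOddVec (z : GolayPt → ℤ) := by
      rcases even_or_odd z with h | h
      · exact absurd (even_dvd h none) (by rw [h1]; decide)
      · exact h
    obtain ⟨a, ha⟩ := odd_min_cases hzn ho
    have hapz : a = pz := by
      by_contra hne
      have := ha pz
      rw [if_neg (Ne.symm hne)] at this
      omega
    obtain ⟨c, hc, hc4, hcs⟩ := odd_normalise ho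
    have hfl : ∀ i, ((flipElt c hc • z : leechLattice) : GolayPt → ℤ) i = (1 - 2 * lift c i) * (z : GolayPt → ℤ) i :=
      fun i => rfl
    refine ⟨g, c, hc, hg, ?_, ?_, fun i => ?_⟩
    · have h3 := hc4 none
      unfold flip at h3
      rw [h1] at h3
      unfold Int.ModEq at h3
      rcases lift_zero_or_one c none with h | h <;> rw [h] at h3 ⊢
      omega
    · have h3 := hc4 pz
      unfold flip at h3
      rw [h2] at h3
      unfold Int.ModEq at h3
      rcases lift_zero_or_one c pz with h | h <;> rw [h] at h3 ⊢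
      omega
    · rw [hfl]
      have h3 := hc4 i
      have h4 := ha i
      rw [hapz] at h4
      unfold flip at h3
      unfold Int.ModEq at h3
      split_ifs at h4 ⊢ <;> rcases lift_zero_or_one c i with h | h <;> rw [h] at h3 ⊢ <;> omega
  obtain ⟨g1, c1, hc1, f1, l1, m1, e1⟩ := key w hn hd
  obtain ⟨g2, c2, hc2, f2, l2, m2, e2⟩ := key w' hn' hd'
  have h1 : flipElt c1 hc1 • g1 • w = flipElt c2 hc2 • g2 • w' := by
    apply Subtype.ext; funext i
    rw [e1, e2]
  have hU : flipElt c1 hc1 • Spor.leechU' = flipElt c2 hc2 • Spor.leechU' := by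
    apply Subtype.ext; funext i
    rw [flipElt_apply, flipElt_apply]
    by_cases hi0 : i = none
    · rw [hi0, l1, l2]
    by_cases hi1 : i = pz
    · rw [hi1, m1, m2]
    rw [U'_other hi0 hi1, mul_zero, mul_zero]
  refine ⟨g2⁻¹ * ((flipElt c2 hc2)⁻¹ * (flipElt c1 hc1 * g1)), ?_, ?_⟩
  · rw [mul_smul, mul_smul, mul_smul, f1, hU, inv_smul_smul]
    rw [inv_smul_eq_iff, f2]
  · rw [mul_smul, mul_smul, mul_smul, h1, inv_smul_smul, inv_smul_smul]

theorem trans_32_16 (v w w' : leechLattice) (hv : sqNorm (v : GolayPt → ℤ) = 32)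
    (hw : sqNorm (w : GolayPt → ℤ) = 32) (hw' : sqNorm (w' : GolayPt → ℤ) = 32)
    (hd : dotInt (v : GolayPt → ℤ) (w : GolayPt → ℤ) = -16) (hd' : dotInt (v : GolayPt → ℤ) (w' : GolayPt → ℤ) = -16) :
    ∃ g : Co0, g • v = v ∧ g • w = w' := by
  obtain ⟨g, hg⟩ := trans_32 v Spor.leechU' hv norm_leechU'
  have h1 := co0_dot g v w
  have h2 := co0_dot g v w'
  rw [hg, hd] at h1
  rw [hg, hd'] at h2
  have h3 : 4 * (((g • w : leechLattice) : GolayPt → ℤ) none - ((g • w : leechLattice) : GolayPt → ℤ) pz) = -16 := by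
    rw [← dotU']; exact h1
  have h4 : 4 * (((g • w' : leechLattice) : GolayPt → ℤ) none - ((g • w' : leechLattice) : GolayPt → ℤ) pz) = -16 := by
    rw [← dotU']; exact h2
  obtain ⟨a, ha, ha'⟩ := m16_std (w := g • w) (by rw [co0_norm, hw]) (by omega)
  obtain ⟨b, hb, hb'⟩ := m16_std (w := g • w') (by rw [co0_norm, hw']) (by omega)
  refine ⟨g⁻¹ * (b⁻¹ * (a * g)), ?_, ?_⟩
  · rw [mul_smul, mul_smul, mul_smul, hg, ha, inv_smul_eq_iff, inv_smul_eq_iff, hg, hb]
  · rw [mul_smul, mul_smul, mul_smul, ha', inv_smul_eq_iff, inv_smul_eq_iff, hb']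

theorem trans_32_8 (v w w' : leechLattice) (hv : sqNorm (v : GolayPt → ℤ) = 32)
    (hw : sqNorm (w : GolayPt → ℤ) = 32) (hw' : sqNorm (w' : GolayPt → ℤ) = 32)
    (hd : dotInt (v : GolayPt → ℤ) (w : GolayPt → ℤ) = -8) (hd' : dotInt (v : GolayPt → ℤ) (w' : GolayPt → ℤ) = -8) :
    ∃ g : Co0, g • v = v ∧ g • w = w' := by
  obtain ⟨g, hg⟩ := trans_32 v Spor.leechU' hv norm_leechU'
  have h1 := co0_dot g v w
  have h2 := co0_dot g v w'
  rw [hg, hd] at h1
  rw [hg, hd'] at h2
  have h3 : 4 * (((g • w : leechLattice) : GolayPt → ℤ) none - ((g • w : leechLattice) : GolayPt → ℤ) pz) = -8 := by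
    rw [← dotU']; exact h1
  have h4 : 4 * (((g • w' : leechLattice) : GolayPt → ℤ) none - ((g • w' : leechLattice) : GolayPt → ℤ) pz) = -8 := by
    rw [← dotU']; exact h2
  obtain ⟨a, ha, ha'⟩ := m8_std (w := g • w) (w' := g • w') (by rw [co0_norm, hw]) (by omega)
    (by rw [co0_norm, hw']) (by omega)
  refine ⟨g⁻¹ * (a * g), ?_, ?_⟩
  · rw [mul_smul, mul_smul, hg, ha, inv_smul_eq_iff, hg]
  · rw [mul_smul, mul_smul, ha', inv_smul_smul]

/-- Pairs of minimal vectors with inner product -8 are permuted transitively. -/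
theorem trans_pair_8 (v w v' w' : leechLattice) (hv : sqNorm (v : GolayPt → ℤ) = 32)
    (hw : sqNorm (w : GolayPt → ℤ) = 32) (hv' : sqNorm (v' : GolayPt → ℤ) = 32)
    (hw' : sqNorm (w' : GolayPt → ℤ) = 32)
    (hd : dotInt (v : GolayPt → ℤ) (w : GolayPt → ℤ) = -8) (hd' : dotInt (v' : GolayPt → ℤ) (w' : GolayPt → ℤ) = -8) :
    ∃ g : Co0, g • v = v' ∧ g • w = w' := by
  obtain ⟨g, hg⟩ := trans_32 v v' hv hv'
  have h1 := co0_dot g v w
  rw [hg, hd] at h1
  obtain ⟨h, hh, hh'⟩ := trans_32_8 v' (g • w) w' hv' (by rw [co0_norm, hw]) hw' h1 hd'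
  exact ⟨h * g, by rw [mul_smul, hg, hh], by rw [mul_smul, hh']⟩

theorem trans_pair_16 (v w v' w' : leechLattice) (hv : sqNorm (v : GolayPt → ℤ) = 32)
    (hw : sqNorm (w : GolayPt → ℤ) = 32) (hv' : sqNorm (v' : GolayPt → ℤ) = 32)
    (hw' : sqNorm (w' : GolayPt → ℤ) = 32)
    (hd : dotInt (v : GolayPt → ℤ) (w : GolayPt → ℤ) = -16) (hd' : dotInt (v' : GolayPt → ℤ) (w' : GolayPt → ℤ) = -16) :
    ∃ g : Co0, g • v = v' ∧ g • w = w' := by
  obtain ⟨g, hg⟩ := trans_32 v v' hv hv'
  have h1 := co0_dot g v w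
  rw [hg, hd] at h1
  obtain ⟨h, hh, hh'⟩ := trans_32_16 v' (g • w) w' hv' (by rw [co0_norm, hw]) hw' h1 hd'
  exact ⟨h * g, by rw [mul_smul, hg, hh], by rw [mul_smul, hh']⟩

theorem trans_552 (u v v' : leechLattice) (hu : sqNorm (u : GolayPt → ℤ) = 48)
    (hv : sqNorm (v : GolayPt → ℤ) = 32 ∧ sqNorm ((u - v : leechLattice) : GolayPt → ℤ) = 32)
    (hv' : sqNorm (v' : GolayPt → ℤ) = 32 ∧ sqNorm ((u - v' : leechLattice) : GolayPt → ℤ) = 32) :
    ∃ g : Co0, g • u = u ∧ g • v = v' := by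
  have hdot : ∀ v : leechLattice, sqNorm (v : GolayPt → ℤ) = 32 → sqNorm ((u - v : leechLattice) : GolayPt → ℤ) = 32 →
      dotInt (v : GolayPt → ℤ) ((u - v : leechLattice) : GolayPt → ℤ) = -8 := by
    intro v h1 h2
    have h3 := sqNorm_add (v : GolayPt → ℤ) ((u - v : leechLattice) : GolayPt → ℤ)
    have h4 : (v : GolayPt → ℤ) + ((u - v : leechLattice) : GolayPt → ℤ) = (u : GolayPt → ℤ) := by
      rw [AddSubgroup.coe_sub]; abel
    rw [h4, hu, h1, h2] at h3
    omega
  obtain ⟨g, h1, h2⟩ := trans_pair_8 v (u - v) v' (u - v') hv.1 hv.2 hv'.1 hv'.2 (hdot v hv.1 hv.2) (hdot v' hv'.1 hv'.2)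
  refine ⟨g, ?_, h1⟩
  rw [co0_sub, h1] at h2
  have := sub_left_inj.1 h2
  exact this

end Cfsg.Agent.Leech
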