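import Cfsg.Agent.Leech.Eng

/-!
# Breadth first search certificates for orbits of subgroups of Co₀ on the lattice
-/

set_option autoImplicit false

namespace Cfsg.Agent.Leech

open Cfsg
open Cfsg.Agent.Golay (fz fz_eq)

/-- `2^152 - 1` -/
def M152 : ℕ := 5708990770823839524233143877797980545530986495

/-- record `k` -/
def fld (G k : ℕ) : ℕ := Nat.land (Nat.shiftRight G (Nat.mul 152 k)) M152

/-- the code of record `k` -/
def cd (G k : ℕ) : ℕ := Nat.land (fld G k) M120

/-- the depth of record `k` -/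
def dp (r : ℕ) : ℕ := Nat.land (Nat.shiftRight r 136) 255

theorem cd_lt (G k : ℕ) : cd G k < 32 ^ 24 := by
  unfold cd
  rw [land_M120]
  have h : (2 : ℕ) ^ 120 = 32 ^ 24 := by norm_num
  rw [h]
  exact Nat.mod_lt _ (by positivity)

/-- check of one record `r` with code `c` -/
def chkOne (gens : List (List ℕ × ℕ)) (G N c0 r c : ℕ) : Bool :=
  match Nat.beq (dp r) 0 with
  | true => Nat.beq c c0
  | false => fz (Nat.land (Nat.shiftRight r 120) 65535) fun p => fz (fld G p) fun r' =>
      fz (Nat.shiftRight r 144) fun g =>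
      (Nat.blt p N && Nat.blt (dp r') (dp r)) && (Nat.blt g gens.length &&
        Nat.beq (Nat.land (appL (gens.getD g ([], 0)).1 (gens.getD g ([], 0)).2 (Nat.land r' M120)) M128) (Nat.mul 8 c))

def chkLoop (gens : List (List ℕ × ℕ)) (G N c0 k : ℕ) : ℕ → Bool :=
  Nat.rec (motive := fun _ => ℕ → Bool) (fun _ => true)
    (fun k ih up => fz (fld G k) fun r => fz (Nat.land r M120) fun c =>
      match Nat.blt c up && chkOne gens G N c0 r c with
      | true => ih c
      | false => false) k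

theorem chkLoop_spec {gens : List (List ℕ × ℕ)} {G N c0 : ℕ} (k : ℕ) : ∀ up, chkLoop gens G N c0 k up = true →
    (∀ j < k, cd G j < up) ∧ (∀ i j, i < j → j < k → cd G i < cd G j) ∧
      ∀ j < k, chkOne gens G N c0 (fld G j) (cd G j) = true := by
  induction k with
  | zero => intro up _; exact ⟨fun j hj => by omega, fun i j _ hj => by omega, fun j hj => by omega⟩
  | succ k ih =>
    intro up h
    have h0 : chkLoop gens G N c0 (k + 1) up = (fz (fld G k) fun r => fz (Nat.land r M120) fun c =>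
      match Nat.blt c up && chkOne gens G N c0 r c with
      | true => chkLoop gens G N c0 k c
      | false => false) := rfl
    rw [h0, fz_eq, fz_eq] at h
    have h1 : Nat.land (fld G k) M120 = cd G k := rfl
    rw [h1] at h
    cases h2 : (Nat.blt (cd G k) up && chkOne gens G N c0 (fld G k) (cd G k)) with
    | false => rw [h2] at h; simp at h
    | true =>
      rw [h2] at h
      rw [Bool.and_eq_true, Nat.blt_eq] at h2
      obtain ⟨h3, h4, h5⟩ := ih _ h
      refine ⟨fun j hj => ?_, fun i j hij hj => ?_, fun j hj => ?_⟩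
      · rcases Nat.lt_succ_iff_lt_or_eq.1 hj with h6 | h6
        · exact (h3 j h6).trans h2.1
        · rw [h6]; exact h2.1
      · rcases Nat.lt_succ_iff_lt_or_eq.1 hj with h6 | h6
        · exact h4 i j hij h6
        · rw [h6] at hij ⊢; exact h3 i hij
      · rcases Nat.lt_succ_iff_lt_or_eq.1 hj with h6 | h6
        · exact h5 j h6
        · rw [h6]; exact h2.2

/-- `q` computes the action of an element of `S` -/
def IsGen (S : Subgroup Co0) (q : List ℕ × ℕ) : Prop :=
  ∃ g ∈ S, ∀ (x : leechLattice) (c d : ℕ), d < 32 ^ 24 → (x : GolayPt → ℤ) = vecOf c → sqNorm (x : GolayPt → ℤ) ≤ 48 →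
    Nat.beq (Nat.land (appL q.1 q.2 c) M128) (Nat.mul 8 d) = true → ((g • x : leechLattice) : GolayPt → ℤ) = vecOf d

theorem reach {gens : List (List ℕ × ℕ)} {G N c0 : ℕ} (S : Subgroup Co0) (x0 : leechLattice)
    (hx0 : (x0 : GolayPt → ℤ) = vecOf c0) (hn : sqNorm (x0 : GolayPt → ℤ) ≤ 48)
    (hgens : ∀ g < gens.length, IsGen S (gens.getD g ([], 0)))
    (h : chkLoop gens G N c0 N (Nat.add M120 1) = true) (D : ℕ) : ∀ j < N, dp (fld G j) ≤ D →
    ∃ g ∈ S, ((g • x0 : leechLattice) : GolayPt → ℤ) = vecOf (cd G j) := by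
  obtain ⟨-, -, hone⟩ := chkLoop_spec N _ h
  have base : ∀ j < N, dp (fld G j) = 0 → ∃ g ∈ S, ((g • x0 : leechLattice) : GolayPt → ℤ) = vecOf (cd G j) := by
    intro j hj h0
    have h1 := hone j hj
    unfold chkOne at h1
    rw [h0] at h1
    have h2 : cd G j = c0 := Nat.eq_of_beq_eq_true h1
    exact ⟨1, S.one_mem, by rw [one_smul, h2, hx0]⟩
  induction D with
  | zero => intro j hj h0; exact base j hj (by omega)
  | succ D ih =>
    intro j hj hD
    by_cases h0 : dp (fld G j) = 0
    · exact base j hj h0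
    · have h1 := hone j hj
      unfold chkOne at h1
      have h2 : Nat.beq (dp (fld G j)) 0 = false := by
        cases h3 : Nat.beq (dp (fld G j)) 0 with
        | false => rfl
        | true => exact absurd (Nat.eq_of_beq_eq_true h3) h0
      rw [h2] at h1
      simp only [fz_eq, Bool.and_eq_true, Nat.blt_eq] at h1
      obtain ⟨⟨h4, h5⟩, h6, h7⟩ := h1
      obtain ⟨g, hg, hgx⟩ := ih _ h4 (by omega)
      obtain ⟨γ, hγ, hγ'⟩ := hgens _ h6
      refine ⟨γ * g, S.mul_mem hγ hg, ?_⟩
      rw [mul_smul]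
      exact hγ' (g • x0) _ _ (cd_lt G j) hgx (by rw [co0_norm]; exact hn) h7

theorem reach_all {gens : List (List ℕ × ℕ)} {G N c0 : ℕ} (S : Subgroup Co0) (x0 : leechLattice)
    (hx0 : (x0 : GolayPt → ℤ) = vecOf c0) (hn : sqNorm (x0 : GolayPt → ℤ) ≤ 48)
    (hgens : ∀ g < gens.length, IsGen S (gens.getD g ([], 0)))
    (h : chkLoop gens G N c0 N (Nat.add M120 1) = true) : ∀ j < N,
    ∃ g ∈ S, ((g • x0 : leechLattice) : GolayPt → ℤ) = vecOf (cd G j) :=
  fun j hj => reach S x0 hx0 hn hgens h _ j hj le_rfl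

/-- The certificate gives `N` elements of the orbit. -/
theorem orbit_ge {gens : List (List ℕ × ℕ)} {G N c0 : ℕ} (S : Subgroup Co0) (x0 : leechLattice)
    (hx0 : (x0 : GolayPt → ℤ) = vecOf c0) (hn : sqNorm (x0 : GolayPt → ℤ) ≤ 48)
    (hgens : ∀ g < gens.length, IsGen S (gens.getD g ([], 0)))
    (h : chkLoop gens G N c0 N (Nat.add M120 1) = true) (hfin : (MulAction.orbit S x0).Finite) :
    N ≤ (MulAction.orbit S x0).ncard := by
  have hr := reach_all S x0 hx0 hn hgens h
  obtain ⟨-, hlt, -⟩ := chkLoop_spec N _ h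
  choose f hf1 hf2 using hr
  have hinj : Function.Injective (fun j : Fin N => (f j.1 j.2 • x0 : leechLattice)) := by
    intro i j hij
    have h1 := hf2 i.1 i.2
    have h2 := hf2 j.1 j.2
    have h3 : (f i.1 i.2 • x0 : leechLattice) = f j.1 j.2 • x0 := hij
    rw [h3, h2] at h1
    have h4 := vecOf_inj (cd_lt G _) (cd_lt G _) h1
    apply Fin.ext
    rcases Nat.lt_trichotomy i.1 j.1 with h5 | h5 | h5
    · have := hlt _ _ h5 j.2; omega
    · exact h5
    · have := hlt _ _ h5 i.2; omega
  have h1 : Set.range (fun j : Fin N => (f j.1 j.2 • x0 : leechLattice)) ⊆ MulAction.orbit S x0 := by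
    rintro y ⟨j, rfl⟩
    exact ⟨⟨f j.1 j.2, hf1 j.1 j.2⟩, rfl⟩
  have h2 := Set.ncard_le_ncard h1 hfin
  rwa [Set.ncard_range_of_injective hinj, Nat.card_fin] at h2

/-- If the orbit is contained in a set of size `N`, the certificate lists the set. -/
theorem orbit_list {gens : List (List ℕ × ℕ)} {G N c0 : ℕ} (S : Subgroup Co0) (x0 : leechLattice)
    (hx0 : (x0 : GolayPt → ℤ) = vecOf c0) (hn : sqNorm (x0 : GolayPt → ℤ) ≤ 48)
    (hgens : ∀ g < gens.length, IsGen S (gens.getD g ([], 0)))
    (h : chkLoop gens G N c0 N (Nat.add M120 1) = true) {T : Set leechLattice} (hfin : T.Finite)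
    (hT : T.ncard = N) (hsub : MulAction.orbit S x0 ⊆ T) : ∀ y ∈ T, ∃ j < N, (y : GolayPt → ℤ) = vecOf (cd G j) := by
  have hr := reach_all S x0 hx0 hn hgens h
  obtain ⟨-, hlt, -⟩ := chkLoop_spec N _ h
  choose f hf1 hf2 using hr
  have hinj : Function.Injective (fun j : Fin N => (f j.1 j.2 • x0 : leechLattice)) := by
    intro i j hij
    have h1 := hf2 i.1 i.2
    have h2 := hf2 j.1 j.2
    have h3 : (f i.1 i.2 • x0 : leechLattice) = f j.1 j.2 • x0 := hij
    rw [h3, h2] at h1
    have h4 := vecOf_inj (cd_lt G _) (cd_lt G _) h1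
    apply Fin.ext
    rcases Nat.lt_trichotomy i.1 j.1 with h5 | h5 | h5
    · have := hlt _ _ h5 j.2; omega
    · exact h5
    · have := hlt _ _ h5 i.2; omega
  have h1 : Set.range (fun j : Fin N => (f j.1 j.2 • x0 : leechLattice)) ⊆ T := by
    rintro y ⟨j, rfl⟩
    exact hsub ⟨⟨f j.1 j.2, hf1 j.1 j.2⟩, rfl⟩
  have h2 : Set.range (fun j : Fin N => (f j.1 j.2 • x0 : leechLattice)) = T := by
    apply Set.eq_of_subset_of_ncard_le h1 _ hfin
    rw [hT, Set.ncard_range_of_injective hinj, Nat.card_fin]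
  intro y hy
  rw [← h2] at hy
  obtain ⟨j, rfl⟩ := hy
  exact ⟨j.1, j.2, hf2 j.1 j.2⟩

/-- a symmetric orthogonal matrix is an involution -/
theorem matElt_sq (R : List ℕ) (h : matOK R R = true) : matElt R R h * matElt R R h = 1 := by
  have h' : ((((latCheck R = true ∧ latCheck R = true) ∧ orthCheck R = true) ∧ orthCheck R = true) ∧
      transCheck R R = true) := by
    have h2 := h
    unfold matOK at h2
    simpa only [Bool.and_eq_true] using h2
  apply co0_ext
  intro x
  rw [mul_smul, one_smul]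
  have key : ∀ z : leechLattice, matElt R R h • z = matFun R h'.1.1.1.1 z := by
    intro z
    apply Subtype.ext
    funext p
    have h1 := matElt_apply R R h z p
    have h2 := matFun_spec R h'.1.1.1.1 z p
    omega
  rw [key, key]
  exact matFun_inv h'.1.1.1.1 h'.1.1.1.1 h'.1.1.2 (fun hi hj => trans_of_check h'.2 hi hj) x

/-! ### Verified generators -/

/-- fixing a vector -/
def fixC (q : List ℕ × ℕ) (c : ℕ) : Bool := Nat.beq (Nat.land (appL q.1 q.2 c) M128) (Nat.mul 8 c)

theorem isGen_of {S : Subgroup Co0} {R C Q : List ℕ} {K : ℕ} (hM : matOK R C = true) (hP : packOK R Q K = true)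
    (hS : matElt R C hM ∈ S) : IsGen S (Q, K) :=
  ⟨matElt R C hM, hS, fun _ _ _ hd hx hn h => app_spec hM hP hd hx hn h⟩

theorem fix_of {R C Q : List ℕ} {K : ℕ} (hM : matOK R C = true) (hP : packOK R Q K = true) {x : leechLattice} {c : ℕ}
    (hc : c < 32 ^ 24) (hx : (x : GolayPt → ℤ) = vecOf c) (hn : sqNorm (x : GolayPt → ℤ) ≤ 48)
    (h : fixC (Q, K) c = true) : matElt R C hM • x = x :=
  Subtype.ext ((app_spec hM hP hc hx hn h).trans hx.symm)

end Cfsg.Agent.Leech
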