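import Cfsg.Agent.Leech.MinCount
import Cfsg.Agent.Leech.CrossStab

/-!
# Counting minimal vectors with prescribed dot products
-/

set_option autoImplicit false

namespace Cfsg.Agent.Leech

open Cfsg

theorem dot_bound {x f : GolayPt → ℤ} (hx : sqNorm x = 32) (hf : sqNorm f ≤ 64) :
    -45 ≤ dotInt f x ∧ dotInt f x ≤ 45 := by
  have h : (dotInt f x) ^ 2 ≤ sqNorm f * sqNorm x := by
    unfold dotInt sqNorm
    exact Finset.sum_mul_sq_le_sq_mul_sq _ _ _
  rw [hx] at h
  constructor <;> nlinarith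

theorem lin_w3 (f1 f2 f3 x : GolayPt → ℤ) :
    lin (fun i => f1 (Golay.pt i) + 128 * f2 (Golay.pt i) + 16384 * f3 (Golay.pt i)) x =
      dotInt f1 x + 128 * dotInt f2 x + 16384 * dotInt f3 x := by
  rw [dotInt_comm f1, dotInt_comm f2, dotInt_comm f3, dot_eq_lin, dot_eq_lin, dot_eq_lin]
  unfold lin
  rw [Finset.mul_sum, Finset.mul_sum, ← Finset.sum_add_distrib, ← Finset.sum_add_distrib]
  exact Finset.sum_congr rfl (fun i _ => by ring)

/-- Count of minimal vectors with three prescribed dot products. -/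
theorem count_dots3 {f1 f2 f3 : GolayPt → ℤ} {t1 t2 t3 : ℤ} {W : List (ℕ × ℕ)} {T K : ℕ}
    (hf : sqNorm f1 ≤ 64 ∧ sqNorm f2 ≤ 64 ∧ sqNorm f3 ≤ 64)
    (ht : (-63 ≤ t1 ∧ t1 ≤ 63) ∧ (-63 ≤ t2 ∧ t2 ≤ 63) ∧ (-63 ≤ t3 ∧ t3 ≤ 63))
    (hW : checkW (fun i => f1 (Golay.pt i) + 128 * f2 (Golay.pt i) + 16384 * f3 (Golay.pt i)) W = true)
    (hT : T < 18446744073709551616 ∧ ((T : ℤ) - (t1 + 128 * t2 + 16384 * t3)) % 18446744073709551616 = 0)
    (h : Nat.beq (countMin T W) K = true) :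
    {x : GolayPt → ℤ | x ∈ leechLattice ∧ sqNorm x = 32 ∧ dotInt f1 x = t1 ∧ dotInt f2 x = t2 ∧
      dotInt f3 x = t3}.ncard = K := by
  rw [← count_min hT.1 hW h]
  congr 1
  ext x
  constructor
  · rintro ⟨h1, h2, h3, h4, h5⟩
    refine ⟨h1, h2, ?_⟩
    rw [lin_w3, h3, h4, h5]
    unfold Int.ModEq
    have := hT.2
    omega
  · rintro ⟨h1, h2, h3⟩
    rw [lin_w3] at h3
    have b1 := dot_bound h2 hf.1
    have b2 := dot_bound h2 hf.2.1
    have b3 := dot_bound h2 hf.2.2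
    obtain ⟨ht1, ht2, ht3⟩ := ht
    have h4 := hT.2
    have h5 : dotInt f1 x + 128 * dotInt f2 x + 16384 * dotInt f3 x ≡ t1 + 128 * t2 + 16384 * t3
        [ZMOD 18446744073709551616] := by
      refine h3.trans ?_
      unfold Int.ModEq
      omega
    have h6 : dotInt f1 x + 128 * dotInt f2 x + 16384 * dotInt f3 x = t1 + 128 * t2 + 16384 * t3 := by
      have h7 := Int.emod_emod_of_dvd
      have h8 := h5.dvd
      obtain ⟨k, hk⟩ := h8
      have : k = 0 := by omega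
      rw [this] at hk
      omega
    refine ⟨h1, h2, ?_, ?_, ?_⟩ <;> omega

/-- sets of lattice vectors inside the lattice type -/
theorem ncard_lattice (P : (GolayPt → ℤ) → Prop) :
    {x : leechLattice | P (x : GolayPt → ℤ)}.ncard = {x : GolayPt → ℤ | x ∈ leechLattice ∧ P x}.ncard := by
  apply Set.ncard_congr (fun (x : leechLattice) _ => (x : GolayPt → ℤ))
  · intro x hx; exact ⟨x.2, hx⟩
  · intro x y _ _ h; exact Subtype.ext h
  · rintro x ⟨hx, hn⟩
    exact ⟨⟨x, hx⟩, hn, rfl⟩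

theorem ncard_transport (g : Co0) (A B : Set leechLattice) (h : ∀ x, x ∈ A ↔ g • x ∈ B) :
    A.ncard = B.ncard := by
  apply Set.ncard_congr (fun (x : leechLattice) _ => g • x)
  · intro x hx; exact (h x).1 hx
  · intro x y _ _ hxy; exact MulAction.injective g hxy
  · intro y hy
    refine ⟨g⁻¹ • y, (h _).2 (by rwa [smul_inv_smul]), smul_inv_smul g y⟩

theorem norm_leechU' : sqNorm (Spor.leechU' : GolayPt → ℤ) = 32 := by
  show sqNorm Spor.vecU' = 32
  decide +kernel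

theorem norm_leechU : sqNorm (Spor.leechU : GolayPt → ℤ) = 32 := by
  show sqNorm Spor.vecU = 32
  decide +kernel

theorem norm_leechV : sqNorm (Spor.leechV : GolayPt → ℤ) = 48 := by
  show sqNorm Spor.vecV = 48
  decide +kernel

end Cfsg.Agent.Leech
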