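import Cfsg.Agent.Leech.Mat

/-!
# Orbit engine

A vector with coordinates in `[-16, 15]` is coded by `c = ∑ (x_i + 16) 32^i < 2^120` (`vecOf c` decodes).
`appL Q K c` computes the image under a matrix in one packed sum.  `chkLoop gens G N c0 N (2^120) = true` is a
kernel check of a breadth first search certificate: `G` packs `N` records (code, parent, depth, generator).
-/

set_option autoImplicit false

namespace Cfsg.Agent.Leech

open Cfsg
open Cfsg.Agent.Golay (fz fz_eq)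

/-- decoding -/
def vecOf (c : ℕ) : GolayPt → ℤ := fun p => (dg c (Golay.idx p) : ℤ) - 16

theorem sum_dg (c k : ℕ) : ∑ j ∈ Finset.range k, dg c j * 32 ^ j = c % 32 ^ k := by
  induction k with
  | zero => simp [Nat.mod_one]
  | succ k ih =>
    rw [Finset.sum_range_succ, ih, dg_eq, Nat.pow_succ, Nat.mod_mul]
    ring

theorem code_eq {c : ℕ} (hc : c < 32 ^ 24) : (c : ℤ) = ∑ j ∈ Finset.range 24, (dg c j : ℤ) * 32 ^ j := by
  have h := sum_dg c 24
  rw [Nat.mod_eq_of_lt hc] at h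
  have h2 := congrArg (fun n : ℕ => (n : ℤ)) h
  simp only [Nat.cast_sum, Nat.cast_mul, Nat.cast_pow, Nat.cast_ofNat] at h2
  exact h2.symm

theorem digits_zero (k : ℕ) : ∀ (a : ℕ → ℤ), (∀ j < k, |a j| ≤ 30) → ∑ j ∈ Finset.range k, a j * 32 ^ j = 0 →
    ∀ j < k, a j = 0 := by
  induction k with
  | zero => intro a _ _ j hj; omega
  | succ k ih =>
    intro a ha h j hj
    rw [Finset.sum_range_succ'] at h
    have h1 : ∑ i ∈ Finset.range k, a (i + 1) * 32 ^ (i + 1) = 32 * ∑ i ∈ Finset.range k, a (i + 1) * 32 ^ i := by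
      rw [Finset.mul_sum]; exact Finset.sum_congr rfl (fun i _ => by ring)
    rw [h1, pow_zero, mul_one] at h
    have h2 := ha 0 (by omega)
    rw [abs_le] at h2
    have h3 : a 0 = 0 := by omega
    have h4 : ∑ i ∈ Finset.range k, a (i + 1) * 32 ^ i = 0 := by omega
    cases j with
    | zero => exact h3
    | succ j => exact ih (fun i => a (i + 1)) (fun i hi => ha (i + 1) (by omega)) h4 j (by omega)

theorem digits_bound (k : ℕ) (a : ℕ → ℤ) (ha : ∀ j < k, |a j| ≤ 31) : |∑ j ∈ Finset.range k, a j * 32 ^ j| < 32 ^ k := by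
  induction k with
  | zero => simp
  | succ k ih =>
    rw [Finset.sum_range_succ, pow_succ]
    have h1 := ih (fun j hj => ha j (by omega))
    have h2 := ha k (by omega)
    rw [abs_lt] at h1 ⊢
    rw [abs_le] at h2
    have hp : (0 : ℤ) < 32 ^ k := by positivity
    constructor <;> nlinarith

theorem vecOf_inj {c d : ℕ} (hc : c < 32 ^ 24) (hd : d < 32 ^ 24) (h : vecOf c = vecOf d) : c = d := by
  have h1 : (c : ℤ) = d := by
    rw [code_eq hc, code_eq hd]
    apply Finset.sum_congr rfl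
    intro j hj
    have h2 := congrFun h (Golay.pt j)
    unfold vecOf at h2
    rw [Golay.idx_pt (Finset.mem_range.1 hj)] at h2
    have : (dg c j : ℤ) = dg d j := by omega
    rw [this]
  exact_mod_cast h1

/-! ### The packed action -/

/-- `acc + ∑ c_i Q_i` -/
def appL (Q : List ℕ) : ℕ → ℕ → ℕ :=
  List.rec (motive := fun _ => ℕ → ℕ → ℕ) (fun acc _ => acc)
    (fun q _ ih acc c => fz (Nat.add acc (Nat.mul (Nat.land c 31) q)) fun a => fz (Nat.shiftRight c 5) fun c' => ih a c') Q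

theorem dg_shift (c i : ℕ) : dg (c >>> 5) i = dg c (i + 1) := by
  rw [dg_eq, dg_eq, Nat.shiftRight_eq_div_pow, Nat.div_div_eq_div_mul]
  congr 2
  rw [pow_succ]
  ring

theorem dg_zero (c : ℕ) : dg c 0 = Nat.land c 31 := rfl

theorem appL_eq (Q : List ℕ) : ∀ acc c, appL Q acc c = acc + ∑ i ∈ Finset.range Q.length, dg c i * Q.getD i 0 := by
  induction Q with
  | nil => intro acc c; simp [appL]
  | cons q Q ih =>
    intro acc c
    have h : appL (q :: Q) acc c = (fz (Nat.add acc (Nat.mul (Nat.land c 31) q)) fun a =>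
      fz (Nat.shiftRight c 5) fun c' => appL Q a c') := rfl
    rw [h, fz_eq, fz_eq, ih, List.length_cons, Finset.sum_range_succ']
    have e1 : Nat.add acc (Nat.mul (Nat.land c 31) q) = acc + Nat.land c 31 * q := rfl
    have e2 : Nat.shiftRight c 5 = c >>> 5 := rfl
    rw [e1, e2, dg_zero, List.getD_cons_zero]
    have e3 : ∀ i ∈ Finset.range Q.length, dg (c >>> 5) i * Q.getD i 0 = dg c (i + 1) * (q :: Q).getD (i + 1) 0 := by
      intro i _
      rw [dg_shift, List.getD_cons_succ]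
    rw [Finset.sum_congr rfl e3]
    ring

/-- `∑_{j<24} 32^j` -/
def EE : ℕ := 42878322444674705577542163234849825

theorem EE_eq : ((EE : ℕ) : ℤ) = ∑ j ∈ Finset.range 24, (32 : ℤ) ^ j := by
  rw [EE]; norm_num [Finset.sum_range_succ]

/-- `2^120 - 1` -/
def M120 : ℕ := 1329227995784915872903807060280344575
/-- `2^128 - 1` -/
def M128 : ℕ := 340282366920938463463374607431768211455

theorem land_M120 (n : ℕ) : Nat.land n M120 = n % 2 ^ 120 := Nat.and_two_pow_sub_one_eq_mod n 120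
theorem land_M128 (n : ℕ) : Nat.land n M128 = n % 2 ^ 128 := Nat.and_two_pow_sub_one_eq_mod n 128

/-- `Q_i ≡ R_i - 16 E`, `K ≡ 128 E - 16 ∑ (R_i - 16 E)` modulo `2^128` -/
def packOK (R Q : List ℕ) (K : ℕ) : Bool :=
  Nat.beq Q.length 24 &&
  allK (fun i => Nat.beq (Nat.land (Nat.add (Q.getD i 0) (Nat.mul 16 EE)) M128) (R.getD i 0) &&
    Nat.blt (R.getD i 0) (Nat.add M120 1)) 24 &&
  Nat.beq (Nat.land (Nat.add K (Nat.mul 16 (∑ i ∈ Finset.range 24, R.getD i 0))) M128)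
    (Nat.land (Nat.mul 6272 EE) M128)

theorem pack_spec {R Q : List ℕ} {K : ℕ} (h : packOK R Q K = true) :
    Q.length = 24 ∧ (∀ i < 24, ((Q.getD i 0 : ℕ) : ℤ) ≡ ∑ j ∈ Finset.range 24, matA R i j * 32 ^ j [ZMOD 2 ^ 128]) ∧
    ((K : ℕ) : ℤ) ≡ 128 * ∑ j ∈ Finset.range 24, (32 : ℤ) ^ j -
      16 * ∑ i ∈ Finset.range 24, ∑ j ∈ Finset.range 24, matA R i j * 32 ^ j [ZMOD 2 ^ 128] := by
  unfold packOK at h
  simp only [Bool.and_eq_true] at h
  obtain ⟨⟨h1, h2⟩, h3⟩ := h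
  have hR : ∀ i < 24, R.getD i 0 < 32 ^ 24 := by
    intro i hi
    have := allK_iff.1 h2 i hi
    rw [Bool.and_eq_true] at this
    have h4 := this.2
    rw [Nat.blt_eq] at h4
    have h5 : Nat.add M120 1 = 32 ^ 24 := by decide +kernel
    rwa [h5] at h4
  have hRs : ∀ i < 24, ((R.getD i 0 : ℕ) : ℤ) = ∑ j ∈ Finset.range 24, matA R i j * 32 ^ j + 16 * ∑ j ∈ Finset.range 24, (32 : ℤ) ^ j := by
    intro i hi
    rw [code_eq (hR i hi), Finset.mul_sum, ← Finset.sum_add_distrib]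
    apply Finset.sum_congr rfl
    intro j _
    unfold matA
    ring
  refine ⟨Nat.eq_of_beq_eq_true h1, ?_, ?_⟩
  · intro i hi
    have := allK_iff.1 h2 i hi
    rw [Bool.and_eq_true] at this
    have h4 := Nat.eq_of_beq_eq_true this.1
    rw [land_M128] at h4
    have h5 : ((Q.getD i 0 : ℕ) : ℤ) + 16 * (EE : ℤ) ≡ ((R.getD i 0 : ℕ) : ℤ) [ZMOD 2 ^ 128] := by
      rw [← h4]
      push_cast
      have e : Nat.add (Q.getD i 0) (Nat.mul 16 EE) = Q.getD i 0 + 16 * EE := rfl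
      rw [e]
      push_cast
      exact (Int.mod_modEq _ _).symm
    rw [hRs i hi, EE_eq] at h5
    exact Int.ModEq.add_right_cancel' _ h5
  · have h4 := Nat.eq_of_beq_eq_true h3
    rw [land_M128, land_M128] at h4
    have h5 : (((K + 16 * ∑ i ∈ Finset.range 24, R.getD i 0 : ℕ)) : ℤ) ≡ ((6272 * EE : ℕ) : ℤ) [ZMOD 2 ^ 128] := by
      have h6 : (K + 16 * ∑ i ∈ Finset.range 24, R.getD i 0) ≡ (6272 * EE) [MOD 2 ^ 128] := h4
      have := (Int.natCast_modEq_iff).2 h6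
      push_cast at this ⊢
      exact this
    push_cast at h5
    have h7 : ∑ i ∈ Finset.range 24, ((R.getD i 0 : ℕ) : ℤ) = ∑ i ∈ Finset.range 24, ∑ j ∈ Finset.range 24, matA R i j * 32 ^ j +
        384 * ∑ j ∈ Finset.range 24, (32 : ℤ) ^ j := by
      rw [Finset.sum_congr rfl (fun i hi => hRs i (Finset.mem_range.1 hi)), Finset.sum_add_distrib, Finset.sum_const,
        Finset.card_range]
      ring
    rw [h7, EE_eq] at h5
    have h8 := Int.ModEq.sub_right (16 * (∑ i ∈ Finset.range 24, ∑ j ∈ Finset.range 24, matA R i j * 32 ^ j +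
        384 * ∑ j ∈ Finset.range 24, (32 : ℤ) ^ j)) h5
    have e1 : (K : ℤ) + 16 * (∑ i ∈ Finset.range 24, ∑ j ∈ Finset.range 24, matA R i j * 32 ^ j +
        384 * ∑ j ∈ Finset.range 24, (32 : ℤ) ^ j) - 16 * (∑ i ∈ Finset.range 24, ∑ j ∈ Finset.range 24, matA R i j * 32 ^ j +
        384 * ∑ j ∈ Finset.range 24, (32 : ℤ) ^ j) = K := by ring
    have e2 : 6272 * ∑ j ∈ Finset.range 24, (32 : ℤ) ^ j - 16 * (∑ i ∈ Finset.range 24, ∑ j ∈ Finset.range 24, matA R i j * 32 ^ j +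
        384 * ∑ j ∈ Finset.range 24, (32 : ℤ) ^ j) = 128 * ∑ j ∈ Finset.range 24, (32 : ℤ) ^ j -
      16 * ∑ i ∈ Finset.range 24, ∑ j ∈ Finset.range 24, matA R i j * 32 ^ j := by ring
    rw [e1, e2] at h8
    exact h8

theorem coord_bound {x : leechLattice} (hn : sqNorm (x : GolayPt → ℤ) ≤ 48) (p : GolayPt) :
    -6 ≤ (x : GolayPt → ℤ) p ∧ (x : GolayPt → ℤ) p ≤ 6 := by
  have h1 : (x : GolayPt → ℤ) p ^ 2 ≤ sqNorm (x : GolayPt → ℤ) := by
    unfold sqNorm
    exact Finset.single_le_sum (f := fun i => (x : GolayPt → ℤ) i ^ 2) (fun j _ => sq_nonneg _) (Finset.mem_univ p)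
  constructor <;> nlinarith

theorem small_aux {S t : ℤ} (ht : 8 * S = 256 * 32 ^ 24 * t) (h1 : -32 ^ 24 < S) (h2 : S < 32 ^ 24) : S = 0 := by
  have hp : (0 : ℤ) < 32 ^ 24 := by positivity
  generalize (32 : ℤ) ^ 24 = W at ht h1 h2 hp
  have h15 : t < 1 := by nlinarith
  have h16 : -1 < t := by nlinarith
  have h17 : t = 0 := by omega
  rw [h17] at ht
  omega

theorem digits_eq (a b : ℕ → ℤ) (h : 8 * ∑ j ∈ Finset.range 24, a j * 32 ^ j ≡ 8 * ∑ j ∈ Finset.range 24, b j * 32 ^ j [ZMOD 2 ^ 128])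
    (hb : ∀ j < 24, |a j - b j| ≤ 30) : ∀ j < 24, a j = b j := by
  have e3 : (8 : ℤ) * ∑ j ∈ Finset.range 24, (a j - b j) * 32 ^ j =
      8 * ∑ j ∈ Finset.range 24, a j * 32 ^ j - 8 * ∑ j ∈ Finset.range 24, b j * 32 ^ j := by
    simp only [sub_mul, Finset.sum_sub_distrib, mul_sub]
  have h9 : (8 : ℤ) * ∑ j ∈ Finset.range 24, (a j - b j) * 32 ^ j ≡ 0 [ZMOD 2 ^ 128] := by
    rw [e3]
    have := h.sub_right (8 * ∑ j ∈ Finset.range 24, b j * 32 ^ j)
    rwa [sub_self] at this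
  have h12 := digits_bound 24 (fun j => a j - b j) (fun j hj => (hb j hj).trans (by norm_num))
  have h13 : ∑ j ∈ Finset.range 24, (a j - b j) * 32 ^ j = 0 := by
    rw [abs_lt] at h12
    obtain ⟨t, ht⟩ := Int.modEq_zero_iff_dvd.1 h9
    have e4 : (2 : ℤ) ^ 128 = 256 * 32 ^ 24 := by norm_num
    rw [e4] at ht
    exact small_aux ht h12.1 h12.2
  intro j hj
  have := digits_zero 24 (fun j => a j - b j) hb h13 j hj
  omega

theorem app_congr {R C Q : List ℕ} {K : ℕ} (hM : matOK R C = true) (hP : packOK R Q K = true) {x : leechLattice} {c : ℕ}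
    (hx : (x : GolayPt → ℤ) = vecOf c) :
    ((appL Q K c : ℕ) : ℤ) ≡ 8 * ∑ j ∈ Finset.range 24, (((matElt R C hM • x : leechLattice) : GolayPt → ℤ) (Golay.pt j) + 16) * 32 ^ j
      [ZMOD 2 ^ 128] := by
  obtain ⟨p1, p2, p3⟩ := pack_spec hP
  rw [appL_eq, p1]
  push_cast
  set y := matElt R C hM • x with hy
  -- the sum
  have h3 : (K : ℤ) + ∑ i ∈ Finset.range 24, (dg c i : ℤ) * (Q.getD i 0 : ℕ) ≡
      128 * ∑ j ∈ Finset.range 24, (32 : ℤ) ^ j - 16 * ∑ i ∈ Finset.range 24, ∑ j ∈ Finset.range 24, matA R i j * 32 ^ j +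
      ∑ i ∈ Finset.range 24, (dg c i : ℤ) * ∑ j ∈ Finset.range 24, matA R i j * 32 ^ j [ZMOD 2 ^ 128] := by
    apply Int.ModEq.add p3
    apply Int.ModEq.sum
    intro i hi
    exact Int.ModEq.mul_left _ (p2 i (Finset.mem_range.1 hi))
  have h4 : ∑ i ∈ Finset.range 24, ((dg c i : ℤ) - 16) * ∑ j ∈ Finset.range 24, matA R i j * 32 ^ j =
      8 * ∑ j ∈ Finset.range 24, (y : GolayPt → ℤ) (Golay.pt j) * 32 ^ j := by
    rw [Finset.mul_sum]
    simp only [Finset.mul_sum]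
    rw [Finset.sum_comm]
    apply Finset.sum_congr rfl
    intro j hj
    have h5 := matElt_apply R C hM x (Golay.pt j)
    rw [← mul_assoc, ← hy] at *
    rw [h5]
    unfold act8
    rw [Golay.idx_pt (Finset.mem_range.1 hj), Finset.sum_mul]
    apply Finset.sum_congr rfl
    intro i hi
    have h6 : (x : GolayPt → ℤ) (Golay.pt i) = (dg c i : ℤ) - 16 := by
      rw [hx]; unfold vecOf; rw [Golay.idx_pt (Finset.mem_range.1 hi)]
    rw [h6]
    ring
  have h7 : 128 * ∑ j ∈ Finset.range 24, (32 : ℤ) ^ j - 16 * ∑ i ∈ Finset.range 24, ∑ j ∈ Finset.range 24, matA R i j * 32 ^ j +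
      ∑ i ∈ Finset.range 24, (dg c i : ℤ) * ∑ j ∈ Finset.range 24, matA R i j * 32 ^ j =
      8 * ∑ j ∈ Finset.range 24, ((y : GolayPt → ℤ) (Golay.pt j) + 16) * 32 ^ j := by
    have e1 : ∑ i ∈ Finset.range 24, ((dg c i : ℤ) - 16) * ∑ j ∈ Finset.range 24, matA R i j * 32 ^ j =
        ∑ i ∈ Finset.range 24, (dg c i : ℤ) * ∑ j ∈ Finset.range 24, matA R i j * 32 ^ j -
        16 * ∑ i ∈ Finset.range 24, ∑ j ∈ Finset.range 24, matA R i j * 32 ^ j := by
      simp only [sub_mul, Finset.sum_sub_distrib, ← Finset.mul_sum]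
    have e2 : ∑ j ∈ Finset.range 24, ((y : GolayPt → ℤ) (Golay.pt j) + 16) * 32 ^ j =
        ∑ j ∈ Finset.range 24, (y : GolayPt → ℤ) (Golay.pt j) * 32 ^ j + 16 * ∑ j ∈ Finset.range 24, (32 : ℤ) ^ j := by
      simp only [add_mul, Finset.sum_add_distrib, ← Finset.mul_sum]
    rw [e2, mul_add, ← h4, e1]
    ring
  rw [h7] at h3
  exact h3

theorem app_spec {R C Q : List ℕ} {K : ℕ} (hM : matOK R C = true) (hP : packOK R Q K = true) {x : leechLattice} {c d : ℕ}
    (hd : d < 32 ^ 24) (hx : (x : GolayPt → ℤ) = vecOf c) (hn : sqNorm (x : GolayPt → ℤ) ≤ 48)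
    (h : Nat.beq (Nat.land (appL Q K c) M128) (Nat.mul 8 d) = true) :
    ((matElt R C hM • x : leechLattice) : GolayPt → ℤ) = vecOf d := by
  have h1 := Nat.eq_of_beq_eq_true h
  rw [land_M128] at h1
  have e0 : Nat.mul 8 d = 8 * d := rfl
  rw [e0] at h1
  have h2 : ((appL Q K c : ℕ) : ℤ) ≡ 8 * (d : ℤ) [ZMOD 2 ^ 128] := by
    have := congrArg (fun n : ℕ => (n : ℤ)) h1
    push_cast at this
    rw [← this]
    exact (Int.mod_modEq _ _).symm
  have hyn : sqNorm ((matElt R C hM • x : leechLattice) : GolayPt → ℤ) ≤ 48 := by rw [co0_norm]; exact hn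
  have h8 := (app_congr hM hP hx).symm.trans h2
  generalize matElt R C hM • x = y at h8 hyn
  rw [code_eq hd] at h8
  have hb : ∀ j < 24, |((y : GolayPt → ℤ) (Golay.pt j) + 16) - (dg d j : ℤ)| ≤ 30 := by
    intro j _
    have h10 := coord_bound hyn (Golay.pt j)
    have h11 := dg_lt d j
    rw [abs_le]
    omega
  have h12 := digits_eq (fun j => (y : GolayPt → ℤ) (Golay.pt j) + 16) (fun j => (dg d j : ℤ)) h8 hb
  funext p
  have h18 := h12 (Golay.idx p) (Golay.idx_lt p)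
  simp only [Golay.pt_idx] at h18
  unfold vecOf
  omega

theorem app_of_eq {R C Q : List ℕ} {K : ℕ} (hM : matOK R C = true) (hP : packOK R Q K = true) {x : leechLattice} {c d : ℕ}
    (hd : d < 32 ^ 24) (hx : (x : GolayPt → ℤ) = vecOf c)
    (h : ((matElt R C hM • x : leechLattice) : GolayPt → ℤ) = vecOf d) :
    Nat.beq (Nat.land (appL Q K c) M128) (Nat.mul 8 d) = true := by
  have h1 := app_congr hM hP hx
  rw [h] at h1
  have h2 : ∑ j ∈ Finset.range 24, (vecOf d (Golay.pt j) + 16) * 32 ^ j = (d : ℤ) := by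
    rw [code_eq hd]
    apply Finset.sum_congr rfl
    intro j hj
    unfold vecOf
    rw [Golay.idx_pt (Finset.mem_range.1 hj), sub_add_cancel]
  rw [h2] at h1
  have h3 : appL Q K c ≡ 8 * d [MOD 2 ^ 128] := by
    rw [← Int.natCast_modEq_iff]
    push_cast
    exact h1
  rw [land_M128]
  have h4 : appL Q K c % 2 ^ 128 = (8 * d) % 2 ^ 128 := h3
  have h5 : 8 * d < 2 ^ 128 := by
    have : (2 : ℕ) ^ 128 = 256 * 32 ^ 24 := by norm_num
    rw [this]
    omega
  rw [h4, Nat.mod_eq_of_lt h5]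
  exact Nat.beq_refl _

end Cfsg.Agent.Leech
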