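import Cfsg.Agent.Leech.Co2

/-!
# The stabiliser of a minimal vector is transitive on the vectors of norm 48 with inner product -16
-/

set_option autoImplicit false

namespace Cfsg.Agent.Leech

open Cfsg

/-- letters of the even vectors of norm 48 -/
theorem even48_cases {w : leechLattice} (hn : sqNorm (w : GolayPt → ℤ) = 48)
    (he : IsEvenVec (w : GolayPt → ℤ)) :
    (cnt w 2 = 12 ∧ cnt w 4 = 0 ∨ cnt w 2 = 8 ∧ cnt w 4 = 1 ∨ cnt w 2 = 0 ∧ cnt w 4 = 3) ∧
    ∀ i, (w : GolayPt → ℤ) i = 0 ∨ (w : GolayPt → ℤ) i = 2 ∨ (w : GolayPt → ℤ) i = -2 ∨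
      (w : GolayPt → ℤ) i = 4 ∨ (w : GolayPt → ℤ) i = -4 := by
  obtain ⟨e1, e2, e3⟩ := cnt_even he (by omega)
  rw [hn] at e2
  refine ⟨by omega, fun i => ?_⟩
  have h7 := abs_le_of_norm hn (by norm_num) i
  have h8 := even_dvd he i
  have h9 : ((w : GolayPt → ℤ) i).natAbs = 0 ∨ ((w : GolayPt → ℤ) i).natAbs = 2 ∨
      ((w : GolayPt → ℤ) i).natAbs = 4 ∨ ((w : GolayPt → ℤ) i).natAbs = 6 ∨ ((w : GolayPt → ℤ) i).natAbs = 8 := by
    omega
  rcases h9 with h | h | h | h | h
  · omega
  · omega
  · omega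
  · have := le_cnt (w : GolayPt → ℤ) i h; omega
  · have := le_cnt (w : GolayPt → ℤ) i h; omega

/-- letters of the odd vectors of norm 48 -/
theorem odd48_cases {w : leechLattice} (hn : sqNorm (w : GolayPt → ℤ) = 48)
    (ho : IsOddVec (w : GolayPt → ℤ)) :
    (cnt w 3 = 3 ∧ ∀ i, ((w : GolayPt → ℤ) i).natAbs = 1 ∨ ((w : GolayPt → ℤ) i).natAbs = 3) ∨
    (∃ a, ∀ i, ((w : GolayPt → ℤ) i).natAbs = if i = a then 5 else 1) := by
  obtain ⟨e1, e2⟩ := cnt_odd ho (by omega)
  rw [hn] at e2
  have hl : ∀ i, ((w : GolayPt → ℤ) i).natAbs = 1 ∨ ((w : GolayPt → ℤ) i).natAbs = 3 ∨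
      ((w : GolayPt → ℤ) i).natAbs = 5 ∨ ((w : GolayPt → ℤ) i).natAbs = 7 := by
    intro i
    have h7 := abs_le_of_norm hn (by norm_num) i
    have h8 := odd_not_dvd ho i
    omega
  have h7 : cnt w 7 = 0 := by omega
  by_cases h5 : cnt w 5 = 0
  · left
    refine ⟨by omega, fun i => ?_⟩
    rcases hl i with h | h | h | h
    · exact Or.inl h
    · exact Or.inr h
    · have := le_cnt (w : GolayPt → ℤ) i h; omega
    · have := le_cnt (w : GolayPt → ℤ) i h; omega
  · right
    have h51 : cnt w 5 = 1 := by omega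
    have h3 : cnt w 3 = 0 := by omega
    obtain ⟨a, hset⟩ := Finset.card_eq_one.1 h51
    refine ⟨a, fun j => ?_⟩
    have h10 : j ∈ (Finset.univ.filter fun i => ((w : GolayPt → ℤ) i).natAbs = 5) ↔ j = a := by
      rw [hset, Finset.mem_singleton]
    rw [Finset.mem_filter] at h10
    simp only [Finset.mem_univ, true_and] at h10
    split_ifs with hj
    · exact h10.2 hj
    · have h11 : ((w : GolayPt → ℤ) j).natAbs ≠ 5 := fun h => hj (h10.1 h)
      rcases hl j with h | h | h | h
      · exact h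
      · have := le_cnt (w : GolayPt → ℤ) j h; omega
      · exact absurd h h11
      · have := le_cnt (w : GolayPt → ℤ) j h; omega

theorem even_of_val {w : leechLattice} {i : GolayPt} (h : (2 : ℤ) ∣ (w : GolayPt → ℤ) i) :
    IsEvenVec (w : GolayPt → ℤ) := by
  rcases even_or_odd w with h1 | h1
  · exact h1
  · exact absurd h (odd_not_dvd h1 i)

theorem odd_of_val {w : leechLattice} {i : GolayPt} (h : ¬ (2 : ℤ) ∣ (w : GolayPt → ℤ) i) :
    IsOddVec (w : GolayPt → ℤ) := by
  rcases even_or_odd w with h1 | h1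
  · exact absurd (even_dvd h1 i) h
  · exact h1

/-- `w` can be moved by the stabiliser of `(4,-4,0^22)` to a vector with `w_∞ = 1`, `w_0 = 5` -/
def Good48 (w : leechLattice) : Prop := ∃ g : Co0, g • Spor.leechU' = Spor.leechU' ∧
  ((g • w : leechLattice) : GolayPt → ℤ) none = 1 ∧ ((g • w : leechLattice) : GolayPt → ℤ) pz = 5

theorem Good48.of_smul {w : leechLattice} {g : Co0} (hg : g • Spor.leechU' = Spor.leechU')
    (h : Good48 (g • w)) : Good48 w := by
  obtain ⟨g', hg', h1, h2⟩ := h
  exact ⟨g' * g, fix_mul hg' hg, by rw [mul_smul]; exact h1, by rw [mul_smul]; exact h2⟩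

/-- a set with enough elements contains two elements away from the base points -/
theorem two_off {A : Finset GolayPt} (h : 2 ≤ ((A.erase none).erase pz).card) :
    ∃ k ∈ A, ∃ l ∈ A, (k ≠ none ∧ k ≠ pz) ∧ (l ≠ none ∧ l ≠ pz) ∧ k ≠ l := by
  obtain ⟨k, hk, l, hl, hkl⟩ := Finset.one_lt_card.1 h
  simp only [Finset.mem_erase] at hk hl
  exact ⟨k, hk.2.2, l, hl.2.2, ⟨hk.2.1, hk.1⟩, ⟨hl.2.1, hl.1⟩, hkl⟩

theorem good_odd3 {w : leechLattice} (hn : sqNorm (w : GolayPt → ℤ) = 48) (ho : IsOddVec (w : GolayPt → ℤ))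
    (h3 : cnt w 3 = 3 ∧ ∀ i, ((w : GolayPt → ℤ) i).natAbs = 1 ∨ ((w : GolayPt → ℤ) i).natAbs = 3)
    (hd : (w : GolayPt → ℤ) none - (w : GolayPt → ℤ) pz = -4) : Good48 w := by
  -- exactly one of the base points has value ±3
  have hbase : (((w : GolayPt → ℤ) none).natAbs = 1 ∧ ((w : GolayPt → ℤ) pz).natAbs = 3) ∨
      (((w : GolayPt → ℤ) none).natAbs = 3 ∧ ((w : GolayPt → ℤ) pz).natAbs = 1) := by
    have := h3.2 none
    have := h3.2 pz
    omega
  have hcard : 2 ≤ (((Finset.univ.filter fun i => ((w : GolayPt → ℤ) i).natAbs = 3).erase none).erase pz).card := by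
    have h6 : (Finset.univ.filter fun i => ((w : GolayPt → ℤ) i).natAbs = 3).card = 3 := h3.1
    rcases hbase with ⟨a, b⟩ | ⟨a, b⟩
    · rw [Finset.erase_eq_of_notMem (a := none), Finset.card_erase_of_mem, h6]
      · rw [Finset.mem_filter]; exact ⟨Finset.mem_univ _, b⟩
      · rw [Finset.mem_filter]; rintro ⟨-, h⟩; omega
    · rw [Finset.erase_eq_of_notMem (a := pz), Finset.card_erase_of_mem, h6]
      · rw [Finset.mem_filter]; exact ⟨Finset.mem_univ _, a⟩
      · rw [Finset.mem_erase, Finset.mem_filter]; rintro ⟨-, -, h⟩; omega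
  obtain ⟨k, hk, l, hl, h1, h2, hkl⟩ := two_off hcard
  rw [Finset.mem_filter] at hk hl
  obtain ⟨g, hg, h⟩ := co2_big w k l h1 h2 hkl
  have h5 := dot_fix hg w
  have := hk.2
  have := hl.2
  exact ⟨g, hg, by omega, by omega⟩

theorem good_odd {w : leechLattice} (hn : sqNorm (w : GolayPt → ℤ) = 48) (ho : IsOddVec (w : GolayPt → ℤ))
    (hd : (w : GolayPt → ℤ) none - (w : GolayPt → ℤ) pz = -4) : Good48 w := by
  rcases odd48_cases hn ho with h3 | ⟨a, ha⟩
  · exact good_odd3 hn ho h3 hd
  · have hn1 := ha none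
    have hn2 := ha pz
    have hbase : (a = none ∨ a = pz) := by
      by_contra hc
      push Not at hc
      rw [if_neg (Ne.symm hc.1)] at hn1
      rw [if_neg (Ne.symm hc.2)] at hn2
      omega
    have hak : ∀ j : GolayPt, j ≠ none → j ≠ pz → ((w : GolayPt → ℤ) j).natAbs = 1 := by
      intro j h1 h2
      rw [ha j, if_neg]
      rintro rfl
      rcases hbase with h | h
      · exact h1 h
      · exact h2 h
    by_cases h1 : (w : GolayPt → ℤ) none = 1
    · exact ⟨1, one_smul _ _, by rw [one_smul]; exact h1, by rw [one_smul]; omega⟩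
    · obtain ⟨k, l, hk, hl, hkl⟩ := exists_two
      obtain ⟨g', hg', h⟩ := co2_big w k l hk hl hkl
      have h5 := dot_fix hg' w
      have hk1 := hak k hk.1 hk.2
      have hl1 := hak l hl.1 hl.2
      have hs : ((g' • w : leechLattice) : GolayPt → ℤ) none = -1 := by omega
      have hs' : ((g' • w : leechLattice) : GolayPt → ℤ) pz = 3 := by omega
      have ho' : IsOddVec ((g' • w : leechLattice) : GolayPt → ℤ) :=
        odd_of_val (i := none) (by rw [hs]; decide)
      have hn' : sqNorm ((g' • w : leechLattice) : GolayPt → ℤ) = 48 := by rw [co0_norm, hn]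
      apply Good48.of_smul hg'
      rcases odd48_cases hn' ho' with h3 | ⟨b, hb⟩
      · exact good_odd3 hn' ho' h3 (by rw [h5, hd])
      · have := hb pz
        rw [hs'] at this
        split_ifs at this <;> simp at this

theorem good_even_a {w : leechLattice} (hn : sqNorm (w : GolayPt → ℤ) = 48) (he : IsEvenVec (w : GolayPt → ℤ))
    (h4 : 1 ≤ cnt w 4) (h1 : (w : GolayPt → ℤ) none = -2) (h2 : (w : GolayPt → ℤ) pz = 2) : Good48 w := by
  obtain ⟨hc, hv⟩ := even48_cases hn he
  have hc2 : 1 ≤ cnt w 2 := le_cnt (w : GolayPt → ℤ) none (by rw [h1]; rfl)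
  have hc8 : cnt w 2 = 8 := by omega
  obtain ⟨k, hk⟩ := cnt_pos h4
  obtain ⟨l, hl, l', -, hl1, -, -⟩ := two_others (A := Finset.univ.filter fun i => ((w : GolayPt → ℤ) i).natAbs = 2)
    (by show 4 ≤ cnt w 2; omega)
  rw [Finset.mem_filter] at hl
  have hk1 : k ≠ none := by rintro rfl; rw [h1] at hk; simp at hk
  have hk2 : k ≠ pz := by rintro rfl; rw [h2] at hk; simp at hk
  have hkl : k ≠ l := by rintro rfl; have := hl.2; omega
  obtain ⟨g, hg, h⟩ := co2_big w k l ⟨hk1, hk2⟩ hl1 hkl
  have h5 := dot_fix hg w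
  have := hl.2
  exact ⟨g, hg, by omega, by omega⟩

theorem good_even_b {w : leechLattice} (hn : sqNorm (w : GolayPt → ℤ) = 48) (_he : IsEvenVec (w : GolayPt → ℤ))
    (hc : 4 ≤ cnt w 2) (h1 : (w : GolayPt → ℤ) none = 0) (h2 : (w : GolayPt → ℤ) pz = 4) : Good48 w := by
  obtain ⟨k, hk, l, hl, hk1, hl1, hkl⟩ := two_others (A := Finset.univ.filter fun i => ((w : GolayPt → ℤ) i).natAbs = 2) hc
  rw [Finset.mem_filter] at hk hl
  obtain ⟨g, hg, -, g0, g1, g2, g3⟩ := co2_signs w k l hk1 hl1 hkl false true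
  obtain ⟨g', hg', hf⟩ := co2_zeta k l hk1 hl1 hkl
  obtain ⟨f1, f2, f3, f4⟩ := hf (g • w)
  rw [g0, g1, g2, g3] at f1 f2 f3 f4
  simp only [if_true, Bool.false_eq_true, if_false] at f1 f2 f3 f4
  rw [hk.2, hl.2, h1, h2] at f1 f2 f3 f4
  have hfix := fix_mul hg' hg
  apply Good48.of_smul hfix
  have e1 : (((g' * g) • w : leechLattice) : GolayPt → ℤ) none = -2 := by rw [mul_smul]; omega
  have e2 : (((g' * g) • w : leechLattice) : GolayPt → ℤ) pz = 2 := by rw [mul_smul]; omega
  have e3 : (((g' * g) • w : leechLattice) : GolayPt → ℤ) l = -4 := by rw [mul_smul]; omega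
  have hn' : sqNorm (((g' * g) • w : leechLattice) : GolayPt → ℤ) = 48 := by rw [co0_norm, hn]
  exact good_even_a hn' (even_of_val (i := none) (by rw [e1]; decide))
    (le_cnt _ l (by rw [e3]; rfl)) e1 e2

theorem good_even {w : leechLattice} (hn : sqNorm (w : GolayPt → ℤ) = 48) (he : IsEvenVec (w : GolayPt → ℤ))
    (hd : (w : GolayPt → ℤ) none - (w : GolayPt → ℤ) pz = -4) : Good48 w := by
  obtain ⟨hc, hv⟩ := even48_cases hn he
  have v1 := hv none
  have v2 := hv pz
  by_cases hc2 : 4 ≤ cnt w 2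
  · -- cases on the values at the base points
    by_cases h0 : (w : GolayPt → ℤ) none = 0
    · exact good_even_b hn he hc2 h0 (by omega)
    · by_cases h4 : 1 ≤ cnt w 4 ∧ (w : GolayPt → ℤ) none = -2
      · exact good_even_a hn he h4.1 h4.2 (by omega)
      · -- `w_∞ = -4`, or `cnt 2 = 12` and `w_∞ = -2`: use two coordinates ±2
        obtain ⟨k, hk, l, hl, hk1, hl1, hkl⟩ := two_others (A := Finset.univ.filter fun i => ((w : GolayPt → ℤ) i).natAbs = 2) hc2
        rw [Finset.mem_filter] at hk hl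
        obtain ⟨g, hg, h⟩ := co2_big w k l hk1 hl1 hkl
        have h5 := dot_fix hg w
        have := hk.2
        have := hl.2
        have e1 : ((g • w : leechLattice) : GolayPt → ℤ) none = 0 := by omega
        have e2 : ((g • w : leechLattice) : GolayPt → ℤ) pz = 4 := by omega
        have hn' : sqNorm ((g • w : leechLattice) : GolayPt → ℤ) = 48 := by rw [co0_norm, hn]
        have he' : IsEvenVec ((g • w : leechLattice) : GolayPt → ℤ) := even_of_val (i := none) (by rw [e1]; exact dvd_zero 2)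
        apply Good48.of_smul hg
        obtain ⟨hc', hv'⟩ := even48_cases hn' he'
        have h6 : 1 ≤ cnt ((g • w : leechLattice) : GolayPt → ℤ) 4 := le_cnt _ pz (by rw [e2]; rfl)
        rcases hc' with hc' | hc' | hc'
        · omega
        · exact good_even_b hn' he' (by omega) e1 e2
        · -- three coordinates ±4
          exfalso
          obtain ⟨p, q, r, hpq, hpr, hqr, hset⟩ := Finset.card_eq_three.1 hc'.2
          have hmem : ∀ j, ((g • w : leechLattice) : GolayPt → ℤ) j ≠ 0 ↔ j ∈ ({p, q, r} : Finset GolayPt) := by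
            intro j
            rw [← hset, Finset.mem_filter]
            have := hv' j
            have h2' : ∀ j, ((g • w : leechLattice) : GolayPt → ℤ) j ≠ 2 ∧ ((g • w : leechLattice) : GolayPt → ℤ) j ≠ -2 := by
              intro j
              constructor
              · intro h; have := le_cnt ((g • w : leechLattice) : GolayPt → ℤ) j (a := 2) (by rw [h]; rfl); omega
              · intro h; have := le_cnt ((g • w : leechLattice) : GolayPt → ℤ) j (a := 2) (by rw [h]; rfl); omega
            have := h2' j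
            constructor
            · intro h; exact ⟨Finset.mem_univ j, by omega⟩
            · rintro ⟨-, h⟩ h0; rw [h0] at h; simp at h
          obtain ⟨c, hc, h4', hs⟩ := he'
          have hsum : ∑ i, ((g • w : leechLattice) : GolayPt → ℤ) i = ((g • w : leechLattice) : GolayPt → ℤ) p +
              (((g • w : leechLattice) : GolayPt → ℤ) q + ((g • w : leechLattice) : GolayPt → ℤ) r) := by
            rw [← Finset.sum_subset (Finset.subset_univ ({p, q, r} : Finset GolayPt))]
            · rw [Finset.sum_insert, Finset.sum_pair hqr]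
              simp [hpq, hpr]
            · intro j _ hj
              by_contra h0
              exact hj ((hmem j).1 h0)
          have hp : ((g • w : leechLattice) : GolayPt → ℤ) p ≠ 0 := (hmem p).2 (by simp)
          have hq : ((g • w : leechLattice) : GolayPt → ℤ) q ≠ 0 := (hmem q).2 (by simp)
          have hr : ((g • w : leechLattice) : GolayPt → ℤ) r ≠ 0 := (hmem r).2 (by simp)
          have h2' : ∀ j, ((g • w : leechLattice) : GolayPt → ℤ) j ≠ 2 ∧ ((g • w : leechLattice) : GolayPt → ℤ) j ≠ -2 := by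
            intro j
            constructor
            · intro h; have := le_cnt ((g • w : leechLattice) : GolayPt → ℤ) j (a := 2) (by rw [h]; rfl); omega
            · intro h; have := le_cnt ((g • w : leechLattice) : GolayPt → ℤ) j (a := 2) (by rw [h]; rfl); omega
          rw [hsum] at hs
          have := hv' p
          have := hv' q
          have := hv' r
          have := h2' p
          have := h2' q
          have := h2' r
          unfold Int.ModEq at hs
          omega
  · -- three coordinates ±4: impossible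
    exfalso
    have hc' : cnt w 2 = 0 ∧ cnt w 4 = 3 := by omega
    obtain ⟨p, q, r, hpq, hpr, hqr, hset⟩ := Finset.card_eq_three.1 hc'.2
    have h2' : ∀ j, (w : GolayPt → ℤ) j ≠ 2 ∧ (w : GolayPt → ℤ) j ≠ -2 := by
      intro j
      constructor
      · intro h; have := le_cnt (w : GolayPt → ℤ) j (a := 2) (by rw [h]; rfl); omega
      · intro h; have := le_cnt (w : GolayPt → ℤ) j (a := 2) (by rw [h]; rfl); omega
    have hmem : ∀ j, (w : GolayPt → ℤ) j ≠ 0 ↔ j ∈ ({p, q, r} : Finset GolayPt) := by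
      intro j
      rw [← hset, Finset.mem_filter]
      have := hv j
      have := h2' j
      constructor
      · intro h; exact ⟨Finset.mem_univ j, by omega⟩
      · rintro ⟨-, h⟩ h0; rw [h0] at h; simp at h
    obtain ⟨c, hc, h4', hs⟩ := he
    have hsum : ∑ i, (w : GolayPt → ℤ) i = (w : GolayPt → ℤ) p + ((w : GolayPt → ℤ) q + (w : GolayPt → ℤ) r) := by
      rw [← Finset.sum_subset (Finset.subset_univ ({p, q, r} : Finset GolayPt))]
      · rw [Finset.sum_insert, Finset.sum_pair hqr]
        simp [hpq, hpr]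
      · intro j _ hj
        by_contra h0
        exact hj ((hmem j).1 h0)
    have hp : (w : GolayPt → ℤ) p ≠ 0 := (hmem p).2 (by simp)
    have hq : (w : GolayPt → ℤ) q ≠ 0 := (hmem q).2 (by simp)
    have hr : (w : GolayPt → ℤ) r ≠ 0 := (hmem r).2 (by simp)
    rw [hsum] at hs
    have := hv p
    have := hv q
    have := hv r
    have := h2' p
    have := h2' q
    have := h2' r
    unfold Int.ModEq at hs
    omega

/-- the standard vector of norm 48: `(1, 5, 1^22)` -/
def w48 : GolayPt → ℤ := fun p => if p = pz then 5 else 1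

theorem w48_mem : w48 ∈ leechLattice := mem_of_test (by decide +kernel)

theorem m48_std {w : leechLattice} (hn : sqNorm (w : GolayPt → ℤ) = 48)
    (hd : (w : GolayPt → ℤ) none - (w : GolayPt → ℤ) pz = -4) :
    ∃ g : Co0, g • Spor.leechU' = Spor.leechU' ∧ g • w = ⟨w48, w48_mem⟩ := by
  have hgood : Good48 w := by
    rcases even_or_odd w with he | ho
    · exact good_even hn he hd
    · exact good_odd hn ho hd
  obtain ⟨g, hg, h1, h2⟩ := hgood
  set z := g • w with hz
  have hzn : sqNorm (z : GolayPt → ℤ) = 48 := by rw [hz, co0_norm, hn]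
  have ho : IsOddVec (z : GolayPt → ℤ) := odd_of_val (i := none) (by rw [h1]; decide)
  rcases odd48_cases hzn ho with h3 | ⟨a, ha⟩
  · have := h3.2 pz
    rw [h2] at this
    simp at this
  have hapz : a = pz := by
    by_contra hne
    have := ha pz
    rw [if_neg (Ne.symm hne)] at this
    omega
  obtain ⟨c, hc, hc4, hcs⟩ := odd_normalise ho
  have l1 : lift c none = 0 := by
    have h3 := hc4 none
    unfold flip at h3
    rw [h1] at h3
    unfold Int.ModEq at h3
    rcases lift_zero_or_one c none with h | h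
    · exact h
    · rw [h] at h3; omega
  have l2 : lift c pz = 0 := by
    have h3 := hc4 pz
    unfold flip at h3
    rw [h2] at h3
    unfold Int.ModEq at h3
    rcases lift_zero_or_one c pz with h | h
    · exact h
    · rw [h] at h3; omega
  refine ⟨flipElt c hc * g, fix_mul ?_ hg, ?_⟩
  · apply Subtype.ext; funext i
    rw [flipElt_apply]
    by_cases hi0 : i = none
    · rw [hi0, l1]; ring
    by_cases hi1 : i = pz
    · rw [hi1, l2]; ring
    rw [U'_other hi0 hi1, mul_zero]
  · rw [mul_smul, ← hz]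
    apply Subtype.ext; funext i
    rw [flipElt_apply]
    show _ = w48 i
    unfold w48
    have h3 := hc4 i
    have h4 := ha i
    rw [hapz] at h4
    unfold flip at h3
    unfold Int.ModEq at h3
    split_ifs at h4 ⊢ <;> rcases lift_zero_or_one c i with h | h <;> rw [h] at h3 ⊢ <;> omega

/-- The stabiliser of a minimal vector is transitive on the vectors of norm 48 with inner product -16. -/
theorem trans_32_48 (x u u' : leechLattice) (hx : sqNorm (x : GolayPt → ℤ) = 32)
    (hu : sqNorm (u : GolayPt → ℤ) = 48) (hu' : sqNorm (u' : GolayPt → ℤ) = 48)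
    (hd : dotInt (x : GolayPt → ℤ) (u : GolayPt → ℤ) = -16) (hd' : dotInt (x : GolayPt → ℤ) (u' : GolayPt → ℤ) = -16) :
    ∃ g : Co0, g • x = x ∧ g • u = u' := by
  obtain ⟨g, hg⟩ := trans_32 x Spor.leechU' hx norm_leechU'
  have h1 := co0_dot g x u
  have h2 := co0_dot g x u'
  rw [hg, hd] at h1
  rw [hg, hd'] at h2
  have h3 : 4 * (((g • u : leechLattice) : GolayPt → ℤ) none - ((g • u : leechLattice) : GolayPt → ℤ) pz) = -16 := by
    rw [← dotU']; exact h1
  have h4 : 4 * (((g • u' : leechLattice) : GolayPt → ℤ) none - ((g • u' : leechLattice) : GolayPt → ℤ) pz) = -16 := by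
    rw [← dotU']; exact h2
  obtain ⟨a, ha, ha'⟩ := m48_std (w := g • u) (by rw [co0_norm, hu]) (by omega)
  obtain ⟨b, hb, hb'⟩ := m48_std (w := g • u') (by rw [co0_norm, hu']) (by omega)
  refine ⟨g⁻¹ * (b⁻¹ * (a * g)), ?_, ?_⟩
  · rw [mul_smul, mul_smul, mul_smul, hg, ha, inv_smul_eq_iff, inv_smul_eq_iff, hg, hb]
  · rw [mul_smul, mul_smul, mul_smul, ha', inv_smul_eq_iff, inv_smul_eq_iff, hb']

/-- Pairs (norm 48, norm 32) with inner product -16 are permuted transitively. -/
theorem trans_pair_48 (u x u' x' : leechLattice) (hu : sqNorm (u : GolayPt → ℤ) = 48)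
    (hx : sqNorm (x : GolayPt → ℤ) = 32) (hu' : sqNorm (u' : GolayPt → ℤ) = 48)
    (hx' : sqNorm (x' : GolayPt → ℤ) = 32)
    (hd : dotInt (u : GolayPt → ℤ) (x : GolayPt → ℤ) = -16) (hd' : dotInt (u' : GolayPt → ℤ) (x' : GolayPt → ℤ) = -16) :
    ∃ g : Co0, g • u = u' ∧ g • x = x' := by
  obtain ⟨g, hg⟩ := trans_32 x x' hx hx'
  rw [dotInt_comm] at hd hd'
  have h1 := co0_dot g x u
  rw [hg, hd] at h1
  obtain ⟨h, hh, hh'⟩ := trans_32_48 x' (g • u) u' hx' (by rw [co0_norm, hu]) hu' h1 hd'
  exact ⟨h * g, by rw [mul_smul, hh'], by rw [mul_smul, hg, hh]⟩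

end Cfsg.Agent.Leech
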