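import Cfsg.Agent.Leech.MinList
import Cfsg.Agent.Golay.Table

/-!
# Counting minimal vectors by a linear functional (kernel computation)

`count_min`: number of minimal vectors `x` with `∑ x_i w_i ≡ T (mod 2^64)` equals `countMin T W` where
`W` is a list of 24 pairs of naturals congruent to `(w_i, -w_i)`.
`count_dots1/2/3`: number of minimal vectors with prescribed dot products with 1/2/3 vectors.
-/

set_option autoImplicit false

namespace Cfsg.Agent.Leech

open Cfsg
open Cfsg.Agent.Golay (fz fz_eq)

/-! ### Kernel functions -/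

def cs (T : ℕ) (l : List (ℕ × ℕ)) : Bool → ℕ → ℕ → ℕ :=
  List.rec (motive := fun _ => Bool → ℕ → ℕ → ℕ)
    (fun par acc tot => Bool.rec (motive := fun _ => ℕ)
       (Bool.rec (motive := fun _ => ℕ) tot (Nat.succ tot)
        (Nat.beq (Nat.mod (Nat.mul 2 acc) 18446744073709551616) T)) tot par)
    (fun p _ ih par acc tot => fz (Nat.add acc p.1) fun a1 => fz (ih par a1 tot) fun t1 =>
      fz (Nat.add acc p.2) fun a2 => ih (Bool.not par) a2 t1) l

def selK (l : List (ℕ × ℕ)) : ℕ → List (ℕ × ℕ) → List (ℕ × ℕ) :=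
  List.rec (motive := fun _ => ℕ → List (ℕ × ℕ) → List (ℕ × ℕ)) (fun _ acc => acc)
    (fun p _ ih o acc => fz (Nat.div o 2) fun o' =>
      Nat.rec (motive := fun _ => List (ℕ × ℕ)) (ih o' acc) (fun _ _ => ih o' (List.cons p acc)) (Nat.mod o 2)) l

def cO (T : ℕ) (W : List (ℕ × ℕ)) (l : List ℕ) : ℕ → ℕ :=
  List.rec (motive := fun _ => ℕ → ℕ) (fun tot => tot)
    (fun o _ ih tot => fz (cs T (selK W o []) false 0 tot) fun t => ih t) l

def bs (l : List (ℕ × ℕ)) : ℕ → ℕ → ℕ :=
  List.rec (motive := fun _ => ℕ → ℕ → ℕ) (fun _ acc => acc)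
    (fun p _ ih m acc => fz (Nat.div m 2) fun m' =>
      fz (Nat.rec (motive := fun _ => ℕ) (Nat.add acc p.1) (fun _ _ => Nat.add acc p.2) (Nat.mod m 2)) fun a => ih m' a) l

def lf (T base : ℕ) (l : List (ℕ × ℕ)) : ℕ → ℕ → ℕ :=
  List.rec (motive := fun _ => ℕ → ℕ → ℕ) (fun _ tot => tot)
    (fun p _ ih m tot => fz (Nat.div m 2) fun m' =>
      Bool.rec (motive := fun _ => ℕ) (ih m' tot) (fz (Nat.succ tot) fun t => ih m' t)
        (Nat.beq (Nat.mod (Nat.add base (Nat.mul 4
          (Nat.rec (motive := fun _ => ℕ) p.2 (fun _ _ => p.1) (Nat.mod m 2)))) 18446744073709551616) T)) l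

def cN (T : ℕ) (W : List (ℕ × ℕ)) (k : ℕ) : ℕ → ℕ :=
  Nat.rec (motive := fun _ => ℕ → ℕ) (fun tot => tot)
    (fun n ih tot => fz (Golay.enc n) fun m => fz (bs W m 0) fun b => fz (lf T b W m tot) fun t => ih t) k

def c1 (T : ℕ) (W : List (ℕ × ℕ)) : ℕ :=
  ((List.range 24).flatMap fun j => (List.range j).flatMap fun i =>
    [(W.getD i (0, 0)).1 + (W.getD j (0, 0)).1, (W.getD i (0, 0)).1 + (W.getD j (0, 0)).2,
     (W.getD i (0, 0)).2 + (W.getD j (0, 0)).1, (W.getD i (0, 0)).2 + (W.getD j (0, 0)).2]).countP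
    fun a => Nat.beq ((4 * a) % 18446744073709551616) T

/-- The count. -/
def countMin (T : ℕ) (W : List (ℕ × ℕ)) : ℕ := cN T W 4096 (cO T W Golay.octadList (c1 T W))

/-! ### Specification -/

/-- linear functional with weights `w` -/
def lin (w : ℕ → ℤ) (x : GolayPt → ℤ) : ℤ := ∑ i ∈ Finset.range 24, x (Golay.pt i) * w i

theorem lin_add (w : ℕ → ℤ) (x y : GolayPt → ℤ) : lin w (x + y) = lin w x + lin w y := by
  unfold lin
  rw [← Finset.sum_add_distrib]
  exact Finset.sum_congr rfl (fun i _ => by rw [Pi.add_apply]; ring)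

theorem lin_zero (w : ℕ → ℤ) : lin w 0 = 0 := by
  unfold lin; simp

theorem pt_inj {i j : ℕ} (hi : i < 24) (hj : j < 24) (h : Golay.pt i = Golay.pt j) : i = j := by
  have := congrArg Golay.idx h
  rwa [Golay.idx_pt hi, Golay.idx_pt hj] at this

theorem lin_single (w : ℕ → ℤ) {p : ℕ} (hp : p < 24) (a : ℤ) : lin w (Pi.single (Golay.pt p) a) = a * w p := by
  unfold lin
  rw [Finset.sum_eq_single p]
  · rw [Pi.single_eq_same]
  · intro i hi hne
    rw [Pi.single_eq_of_ne, zero_mul]
    intro h; exact hne (pt_inj (Finset.mem_range.1 hi) hp h)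
  · intro h; exact absurd (Finset.mem_range.2 hp) h

theorem sum_pts {f : GolayPt → ℤ} : ∑ p, f p = ∑ i ∈ Finset.range 24, f (Golay.pt i) := by
  rw [Finset.sum_range]
  exact (Equiv.sum_comp Golay.ptEquiv f).symm

theorem dot_eq_lin (x f : GolayPt → ℤ) : dotInt x f = lin (fun i => f (Golay.pt i)) x := by
  unfold dotInt lin
  rw [sum_pts]

/-- the test modulo `2 ^ 64` -/
def hit (w : ℕ → ℤ) (T : ℕ) (a : ℤ) (x : GolayPt → ℤ) : Bool :=
  decide (lin w x + a ≡ (T : ℤ) [ZMOD 18446744073709551616])

theorem hit_congr {w : ℕ → ℤ} {T : ℕ} {a a' : ℤ} {x x' : GolayPt → ℤ}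
    (h : lin w x + a ≡ lin w x' + a' [ZMOD 18446744073709551616]) : hit w T a x = hit w T a' x' := by
  unfold hit
  rw [decide_eq_decide]
  exact ⟨fun h1 => h.symm.trans h1, fun h1 => h.trans h1⟩

theorem beq_hit {w : ℕ → ℤ} {T n : ℕ} (hT : T < 18446744073709551616) {x : GolayPt → ℤ}
    (h : (n : ℤ) ≡ lin w x [ZMOD 18446744073709551616]) :
    Nat.beq (Nat.mod n 18446744073709551616) T = hit w T 0 x := by
  unfold hit
  rw [Bool.eq_iff_iff, Nat.beq_eq, decide_eq_true_eq, add_zero]
  constructor
  · intro h1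
    have h2 : n % 18446744073709551616 = T := h1
    refine h.symm.trans ?_
    unfold Int.ModEq
    omega
  · intro h1
    have h2 := h.trans h1
    show n % 18446744073709551616 = T
    unfold Int.ModEq at h2
    omega

theorem beq_mod {T n : ℕ} (hT : T < 18446744073709551616) {z : ℤ}
    (h : (n : ℤ) ≡ z [ZMOD 18446744073709551616]) :
    Nat.beq (Nat.mod n 18446744073709551616) T = decide (z ≡ (T : ℤ) [ZMOD 18446744073709551616]) := by
  rw [Bool.eq_iff_iff, Nat.beq_eq, decide_eq_true_eq]
  constructor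
  · intro h1
    have h2 : n % 18446744073709551616 = T := h1
    refine h.symm.trans ?_
    unfold Int.ModEq
    omega
  · intro h1
    have h2 := h.trans h1
    show n % 18446744073709551616 = T
    unfold Int.ModEq at h2
    omega

/-- `W` is a table of the weights and their negatives modulo `2 ^ 64`. -/
def GoodW (w : ℕ → ℤ) (k : ℕ) (W : List (ℕ × ℕ)) : Prop :=
  ∀ i (h : i < W.length), ((W[i].1 : ℕ) : ℤ) ≡ w (k + i) [ZMOD 18446744073709551616] ∧
    ((W[i].2 : ℕ) : ℤ) ≡ -w (k + i) [ZMOD 18446744073709551616]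

theorem cs_cons (T : ℕ) (p : ℕ × ℕ) (l : List (ℕ × ℕ)) (par : Bool) (acc tot : ℕ) :
    cs T (p :: l) par acc tot = cs T l (!par) (acc + p.2) (cs T l par (acc + p.1) tot) := by
  have : cs T (p :: l) par acc tot = (fz (Nat.add acc p.1) fun a1 => fz (cs T l par a1 tot) fun t1 =>
      fz (Nat.add acc p.2) fun a2 => cs T l (Bool.not par) a2 t1) := rfl
  rw [this, fz_eq, fz_eq, fz_eq]
  rfl

theorem cs_spec (w : ℕ → ℤ) (T : ℕ) (hT : T < 18446744073709551616) (ab : ℕ → ℕ × ℕ) (ps : List ℕ) :
    (∀ p ∈ ps, p < 24) →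
    (∀ p ∈ ps, (((ab p).1 : ℕ) : ℤ) ≡ w p [ZMOD 18446744073709551616] ∧
      (((ab p).2 : ℕ) : ℤ) ≡ -w p [ZMOD 18446744073709551616]) →
    ∀ (par : Bool) (acc tot : ℕ), cs T (ps.map ab) par acc tot =
      tot + (signVecs ps par).countP (hit w T (2 * (acc : ℤ))) := by
  induction ps with
  | nil =>
    intro _ _ par acc tot
    cases par
    · have h1 : cs T (([] : List ℕ).map ab) false acc tot = Bool.rec (motive := fun _ => ℕ) tot (Nat.succ tot)
        (Nat.beq (Nat.mod (Nat.mul 2 acc) 18446744073709551616) T) := rfl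
      have h2 : (signVecs [] false).countP (hit w T (2 * (acc : ℤ))) =
          if hit w T (2 * (acc : ℤ)) 0 then 1 else 0 := by
        simp only [signVecs, List.countP_singleton]
      have h3 : Nat.beq (Nat.mod (Nat.mul 2 acc) 18446744073709551616) T = hit w T (2 * (acc : ℤ)) 0 := by
        unfold hit
        rw [lin_zero, zero_add, Bool.eq_iff_iff, Nat.beq_eq, decide_eq_true_eq]
        constructor
        · intro h1
          have h2 : (2 * acc) % 18446744073709551616 = T := h1
          unfold Int.ModEq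
          omega
        · intro h1
          show (2 * acc) % 18446744073709551616 = T
          unfold Int.ModEq at h1
          omega
      rw [h1, h2, h3]
      cases hit w T (2 * (acc : ℤ)) 0 <;> simp
    · have h1 : cs T (([] : List ℕ).map ab) true acc tot = tot := rfl
      rw [h1]; simp [signVecs]
  | cons p ps ih =>
    intro hlt hab par acc tot
    have hp := hab p List.mem_cons_self
    have hlp := hlt p List.mem_cons_self
    have ih' := ih (fun q hq => hlt q (List.mem_cons_of_mem _ hq)) (fun q hq => hab q (List.mem_cons_of_mem _ hq))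
    rw [List.map_cons, cs_cons, ih', ih']
    simp only [signVecs, List.countP_append, List.countP_map]
    have e1 : (hit w T (2 * (acc : ℤ)) ∘ fun x => x + Pi.single (Golay.pt p) 2) =
        hit w T (2 * ((acc + (ab p).1 : ℕ) : ℤ)) := by
      funext x
      apply hit_congr
      rw [lin_add, lin_single w hlp]
      have h1 := hp.1
      push_cast
      unfold Int.ModEq at *
      omega
    have e2 : (hit w T (2 * (acc : ℤ)) ∘ fun x => x + Pi.single (Golay.pt p) (-2)) =
        hit w T (2 * ((acc + (ab p).2 : ℕ) : ℤ)) := by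
      funext x
      apply hit_congr
      rw [lin_add, lin_single w hlp]
      have h1 := hp.2
      push_cast
      unfold Int.ModEq at *
      omega
    rw [e1, e2]
    ring

theorem selK_eq (l : List (ℕ × ℕ)) : ∀ (o : ℕ) (acc : List (ℕ × ℕ)), selK l o acc = selG l o acc := by
  induction l with
  | nil => intro o acc; rfl
  | cons p l ih =>
    intro o acc
    have h1 : selK (p :: l) o acc = (fz (Nat.div o 2) fun o' =>
      Nat.rec (motive := fun _ => List (ℕ × ℕ)) (selK l o' acc) (fun _ _ => selK l o' (List.cons p acc)) (Nat.mod o 2)) := rfl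
    rw [h1, fz_eq, ih, ih]
    simp only [selG]
    have h2 : o % 2 = 0 ∨ o % 2 = 1 := by omega
    have h3 : Nat.mod o 2 = o % 2 := rfl
    have h4 : Nat.div o 2 = o / 2 := rfl
    rcases h2 with h | h
    · rw [h3, h4, h]; simp
    · rw [h3, h4, h]; simp

theorem selK_pos {W : List (ℕ × ℕ)} (hW : W.length = 24) (o : ℕ) :
    selK W o [] = (posOf o).map (fun i => W.getD i (0, 0)) := by
  rw [selK_eq]
  have h1 : W = (List.range' 0 24).map (fun i => W.getD i (0, 0)) := by
    apply List.ext_getElem
    · simp [hW]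
    · intro i h1 h2
      rw [List.getElem_map, List.getElem_range', List.getD_eq_getElem _ _ (by omega)]
      congr 1; omega
  conv_lhs => rw [h1]
  have := selG_map (fun i => W.getD i (0, 0)) (List.range' 0 24) o []
  rw [List.map_nil] at this
  rw [this]; rfl

theorem cO_spec (w : ℕ → ℤ) (T : ℕ) (hT : T < 18446744073709551616) {W : List (ℕ × ℕ)} (hl : W.length = 24)
    (hW : GoodW w 0 W) (l : List ℕ) : ∀ tot, cO T W l tot =
      tot + (l.flatMap fun o => signVecs (posOf o) false).countP (hit w T 0) := by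
  induction l with
  | nil => intro tot; simp [cO]
  | cons o l ih =>
    intro tot
    have h1 : cO T W (o :: l) tot = (fz (cs T (selK W o []) false 0 tot) fun t => cO T W l t) := rfl
    rw [h1, fz_eq, ih, selK_pos hl, cs_spec w T hT _ (posOf o)]
    · rw [List.flatMap_cons, List.countP_append]
      simp only [Nat.cast_zero, mul_zero]
      ring
    · intro p hp; exact (mem_posOf.1 hp).1
    · intro p hp
      have hp' := (mem_posOf.1 hp).1
      rw [← hl] at hp'
      have := hW p hp'
      rw [List.getD_eq_getElem _ _ hp']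
      rwa [zero_add] at this

theorem bs_spec (w : ℕ → ℤ) (W : List (ℕ × ℕ)) : ∀ (k m acc : ℕ), GoodW w k W →
    ((bs W m acc : ℕ) : ℤ) ≡ acc + ∑ i ∈ Finset.range W.length, (if m.testBit i then -1 else 1) * w (k + i)
      [ZMOD 18446744073709551616] := by
  induction W with
  | nil => intro k m acc _; simp [bs]
  | cons p W ih =>
    intro k m acc hW
    have h1 : bs (p :: W) m acc = (fz (Nat.div m 2) fun m' =>
      fz (Nat.rec (motive := fun _ => ℕ) (Nat.add acc p.1) (fun _ _ => Nat.add acc p.2) (Nat.mod m 2)) fun a => bs W m' a) := rfl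
    have hW' : GoodW w (k + 1) W := by
      intro i hi
      have := hW (i + 1) (by simpa using hi)
      rw [List.getElem_cons_succ] at this
      have e : k + 1 + i = k + (i + 1) := by ring
      rw [e]; exact this
    have h0 := hW 0 (by simp)
    rw [List.getElem_cons_zero, add_zero] at h0
    rw [h1, fz_eq, fz_eq]
    refine (ih (k + 1) _ _ hW').trans ?_
    rw [List.length_cons, Finset.sum_range_succ']
    have hs : ∀ i, (Nat.div m 2).testBit i = m.testBit (i + 1) := fun i => (Nat.testBit_succ m i).symm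
    simp only [hs]
    have e2 : ∀ i, w (k + 1 + i) = w (k + (i + 1)) := fun i => by congr 1; ring
    simp only [e2, add_zero]
    have h2 : m % 2 = 0 ∨ m % 2 = 1 := by omega
    have h3 : Nat.mod m 2 = m % 2 := rfl
    have h4 : m.testBit 0 = decide (m % 2 = 1) := Nat.testBit_zero m
    rw [h3, h4]
    generalize ∑ i ∈ Finset.range W.length, (if m.testBit (i + 1) then -1 else 1) * w (k + (i + 1)) = S
    have key : ∀ (q : ℕ) (z : ℤ), ((q : ℕ) : ℤ) ≡ z [ZMOD 18446744073709551616] →
        (((acc + q : ℕ) : ℕ) : ℤ) + S ≡ acc + (S + z) [ZMOD 18446744073709551616] := by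
      intro q z hq
      have := (hq.add_left (acc : ℤ)).add_right S
      push_cast
      have e : (acc : ℤ) + (S + z) = acc + z + S := by ring
      rw [e]; exact this
    rcases h2 with h | h
    · rw [h]
      have := key p.1 (w k) h0.1
      simpa using this
    · rw [h]
      have := key p.2 (-w k) h0.2
      simpa using this

theorem lf_spec (w : ℕ → ℤ) (T base : ℕ) (hT : T < 18446744073709551616) (W : List (ℕ × ℕ)) :
    ∀ (k m tot : ℕ), GoodW w k W →
    lf T base W m tot = tot + (List.range W.length).countP (fun j => decide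
      ((base : ℤ) - 4 * (if m.testBit j then -1 else 1) * w (k + j) ≡ (T : ℤ) [ZMOD 18446744073709551616])) := by
  induction W with
  | nil => intro k m tot _; simp [lf]
  | cons p W ih =>
    intro k m tot hW
    have h1 : lf T base (p :: W) m tot = (fz (Nat.div m 2) fun m' =>
      Bool.rec (motive := fun _ => ℕ) (lf T base W m' tot) (fz (Nat.succ tot) fun t => lf T base W m' t)
        (Nat.beq (Nat.mod (Nat.add base (Nat.mul 4
          (Nat.rec (motive := fun _ => ℕ) p.2 (fun _ _ => p.1) (Nat.mod m 2)))) 18446744073709551616) T)) := rfl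
    have hW' : GoodW w (k + 1) W := by
      intro i hi
      have := hW (i + 1) (by simpa using hi)
      rw [List.getElem_cons_succ] at this
      have e : k + 1 + i = k + (i + 1) := by ring
      rw [e]; exact this
    have h0 := hW 0 (by simp)
    rw [List.getElem_cons_zero, add_zero] at h0
    rw [h1, fz_eq, fz_eq, ih (k + 1) _ _ hW', ih (k + 1) _ _ hW']
    rw [List.length_cons, List.range_succ_eq_map, List.countP_cons, List.countP_map]
    have hs : ∀ i, (Nat.div m 2).testBit i = m.testBit (i + 1) := fun i => (Nat.testBit_succ m i).symm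
    have e2 : ∀ i, w (k + 1 + i) = w (k + (i + 1)) := fun i => by congr 1; ring
    simp only [hs, e2]
    have e4 : ((fun j => decide ((base : ℤ) - 4 * (if m.testBit j then -1 else 1) * w (k + j) ≡
        (T : ℤ) [ZMOD 18446744073709551616])) ∘ Nat.succ) = (fun j => decide
        ((base : ℤ) - 4 * (if m.testBit (j + 1) then -1 else 1) * w (k + (j + 1)) ≡ (T : ℤ) [ZMOD 18446744073709551616])) := by
      funext j; rfl
    rw [e4]
    generalize (List.range W.length).countP (fun j => decide
        ((base : ℤ) - 4 * (if m.testBit (j + 1) then -1 else 1) * w (k + (j + 1)) ≡ (T : ℤ) [ZMOD 18446744073709551616])) = C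
    have key : Nat.beq (Nat.mod (Nat.add base (Nat.mul 4
          (Nat.rec (motive := fun _ => ℕ) p.2 (fun _ _ => p.1) (Nat.mod m 2)))) 18446744073709551616) T =
        decide ((base : ℤ) - 4 * (if m.testBit 0 then -1 else 1) * w (k + 0) ≡ (T : ℤ) [ZMOD 18446744073709551616]) := by
      apply beq_mod hT
      have h2 : m % 2 = 0 ∨ m % 2 = 1 := by omega
      have h3 : Nat.mod m 2 = m % 2 := rfl
      have h4 : m.testBit 0 = decide (m % 2 = 1) := Nat.testBit_zero m
      rw [h3, h4, add_zero]
      rcases h2 with h | h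
      · rw [h]
        have := (h0.2.mul_left 4).add_left (base : ℤ)
        simp only [Nat.add_eq, Nat.mul_eq, Nat.cast_add, Nat.cast_mul, Nat.cast_ofNat]
        simpa [sub_eq_add_neg] using this
      · rw [h]
        have := (h0.1.mul_left 4).add_left (base : ℤ)
        simp only [Nat.add_eq, Nat.mul_eq, Nat.cast_add, Nat.cast_mul, Nat.cast_ofNat]
        simpa [sub_eq_add_neg] using this
    rw [key]
    cases decide ((base : ℤ) - 4 * (if m.testBit 0 then -1 else 1) * w (k + 0) ≡ (T : ℤ) [ZMOD 18446744073709551616])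
    · simp
    · simp; ring

theorem lin_oddV (w : ℕ → ℤ) (m j : ℕ) (hj : j < 24) : lin w (oddV m j) =
    ∑ i ∈ Finset.range 24, (if m.testBit i then -1 else 1) * w i - 4 * (if m.testBit j then -1 else 1) * w j := by
  unfold lin
  have h1 : ∀ i ∈ Finset.range 24, oddV m j (Golay.pt i) * w i = (if m.testBit i then -1 else 1) * w i +
      (if i = j then - 4 * (if m.testBit j then -1 else 1) * w j else 0) := by
    intro i hi
    unfold oddV
    rw [Golay.idx_pt (Finset.mem_range.1 hi)]
    split_ifs <;> simp_all <;> ring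
  rw [Finset.sum_congr rfl h1, Finset.sum_add_distrib, Finset.sum_ite_eq', if_pos (Finset.mem_range.2 hj)]
  ring

theorem cN_spec (w : ℕ → ℤ) (T : ℕ) (hT : T < 18446744073709551616) {W : List (ℕ × ℕ)} (hl : W.length = 24)
    (hW : GoodW w 0 W) (k : ℕ) : ∀ tot, cN T W k tot = tot +
      ((List.range k).flatMap fun n => (List.range 24).map fun j => oddV (Golay.enc n) j).countP (hit w T 0) := by
  induction k with
  | zero => intro tot; simp [cN]
  | succ k ih =>
    intro tot
    have h1 : cN T W (k + 1) tot = (fz (Golay.enc k) fun m => fz (bs W m 0) fun b =>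
      fz (lf T b W m tot) fun t => cN T W k t) := rfl
    rw [h1, fz_eq, fz_eq, fz_eq, ih, List.range_succ (n := k), List.flatMap_append, List.countP_append,
      lf_spec w T _ hT W 0 _ _ hW, hl]
    have h2 : (List.range 24).countP (fun j => decide
        (((bs W (Golay.enc k) 0 : ℕ) : ℤ) - 4 * (if (Golay.enc k).testBit j then -1 else 1) * w (0 + j) ≡
          (T : ℤ) [ZMOD 18446744073709551616])) =
        (List.flatMap (fun n => (List.range 24).map fun j => oddV (Golay.enc n) j) [k]).countP (hit w T 0) := by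
      rw [List.flatMap_singleton, List.countP_map]
      apply List.countP_congr
      intro j hj
      rw [List.mem_range] at hj
      have h3 := bs_spec w W 0 (Golay.enc k) 0 hW
      rw [hl] at h3
      simp only [Function.comp, hit, lin_oddV w _ _ hj, decide_eq_true_eq, zero_add, add_zero] at h3 ⊢
      generalize ∑ i ∈ Finset.range 24, (if (Golay.enc k).testBit i then -1 else 1) * w i = S at *
      generalize 4 * (if (Golay.enc k).testBit j then -1 else 1) * w j = D at *
      unfold Int.ModEq at *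
      push_cast at h3
      omega
    rw [← h2]
    ring

theorem c1_spec (w : ℕ → ℤ) (T : ℕ) (hT : T < 18446744073709551616) {W : List (ℕ × ℕ)} (hl : W.length = 24)
    (hW : GoodW w 0 W) : c1 T W = L1.countP (hit w T 0) := by
  unfold c1 L1
  have hg : ∀ i < 24, (((W.getD i (0, 0)).1 : ℕ) : ℤ) ≡ w i [ZMOD 18446744073709551616] ∧
      (((W.getD i (0, 0)).2 : ℕ) : ℤ) ≡ -w i [ZMOD 18446744073709551616] := by
    intro i hi
    rw [← hl] at hi
    have := hW i hi
    rw [List.getD_eq_getElem _ _ hi]
    rwa [zero_add] at this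
  rw [List.countP_flatMap, List.countP_flatMap]
  congr 1
  apply List.map_congr_left
  intro j hj
  rw [List.mem_range] at hj
  simp only [Function.comp]
  rw [List.countP_flatMap, List.countP_flatMap]
  congr 1
  apply List.map_congr_left
  intro i hi
  rw [List.mem_range] at hi
  simp only [Function.comp]
  have hi' : i < 24 := lt_trans hi hj
  have key : ∀ (a b : ℤ) (n : ℕ), ((4 * n : ℕ) : ℤ) ≡ a * w i + b * w j [ZMOD 18446744073709551616] →
      Nat.beq ((4 * n) % 18446744073709551616) T = hit w T 0 (twoVec a b (Golay.pt i) (Golay.pt j)) := by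
    intro a b n h
    apply beq_hit hT
    unfold twoVec
    rw [lin_add, lin_single w hi', lin_single w hj]
    exact h
  obtain ⟨a1, a2⟩ := hg i hi'
  obtain ⟨b1, b2⟩ := hg j hj
  simp only [List.countP_cons, List.countP_nil]
  have c (a b : ℤ) (n m : ℕ) (h1 : (n : ℤ) ≡ a * w i [ZMOD 18446744073709551616])
      (h2 : (m : ℤ) ≡ b * w j [ZMOD 18446744073709551616]) :
      ((4 * (n + m) : ℕ) : ℤ) ≡ (4 * a) * w i + (4 * b) * w j [ZMOD 18446744073709551616] := by
    have := (h1.add h2).mul_left 4
    push_cast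
    have e : (4 * a) * w i + (4 * b) * w j = 4 * (a * w i + b * w j) := by ring
    rw [e]; exact this
  have k1 := key _ _ _ (c 1 1 (W.getD i (0, 0)).1 (W.getD j (0, 0)).1 (by simpa using a1) (by simpa using b1))
  have k2 := key _ _ _ (c 1 (-1) (W.getD i (0, 0)).1 (W.getD j (0, 0)).2 (by simpa using a1) (by simpa using b2))
  have k3 := key _ _ _ (c (-1) 1 (W.getD i (0, 0)).2 (W.getD j (0, 0)).1 (by simpa using a2) (by simpa using b1))
  have k4 := key _ _ _ (c (-1) (-1) (W.getD i (0, 0)).2 (W.getD j (0, 0)).2 (by simpa using a2) (by simpa using b2))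
  simp only [mul_one, mul_neg] at k1 k2 k3 k4
  rw [k1, k2, k3, k4]

theorem countMin_spec (w : ℕ → ℤ) (T : ℕ) (hT : T < 18446744073709551616) {W : List (ℕ × ℕ)} (hl : W.length = 24)
    (hW : GoodW w 0 W) : minList.countP (hit w T 0) = countMin T W := by
  unfold countMin
  rw [cN_spec w T hT hl hW, cO_spec w T hT hl hW, c1_spec w T hT hl hW]
  unfold minList
  rw [List.countP_append, List.countP_append]
  unfold L2 L3
  ring

/-- Boolean check of a table against weights. -/
def checkW (w : ℕ → ℤ) (W : List (ℕ × ℕ)) : Bool :=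
  decide (W.length = 24) && (List.range 24).all (fun i =>
    decide (((((W.getD i (0, 0)).1 : ℕ) : ℤ) - w i) % 18446744073709551616 = 0) &&
    decide (((((W.getD i (0, 0)).2 : ℕ) : ℤ) + w i) % 18446744073709551616 = 0))

theorem goodW_of_check {w : ℕ → ℤ} {W : List (ℕ × ℕ)} (h : checkW w W = true) : W.length = 24 ∧ GoodW w 0 W := by
  unfold checkW at h
  rw [Bool.and_eq_true, decide_eq_true_eq, List.all_eq_true] at h
  refine ⟨h.1, fun i hi => ?_⟩
  have h2 := h.2 i (List.mem_range.2 (by omega))
  rw [Bool.and_eq_true, decide_eq_true_eq, decide_eq_true_eq] at h2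
  rw [List.getD_eq_getElem _ _ hi] at h2
  rw [zero_add]
  refine ⟨(Int.modEq_iff_dvd.2 (Int.dvd_of_emod_eq_zero h2.1)).symm, ?_⟩
  apply Int.ModEq.symm
  apply Int.modEq_iff_dvd.2
  have := Int.dvd_of_emod_eq_zero h2.2
  rwa [sub_neg_eq_add]

theorem count_min {w : ℕ → ℤ} {T : ℕ} {W : List (ℕ × ℕ)} {K : ℕ} (hT : T < 18446744073709551616)
    (hW : checkW w W = true) (h : Nat.beq (countMin T W) K = true) :
    {x : GolayPt → ℤ | x ∈ leechLattice ∧ sqNorm x = 32 ∧ lin w x ≡ (T : ℤ) [ZMOD 18446744073709551616]}.ncard = K := by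
  obtain ⟨h1, h2⟩ := goodW_of_check hW
  rw [← Nat.eq_of_beq_eq_true h, ← countMin_spec w T hT h1 h2, ← ncard_min]
  congr 1
  ext x
  simp only [hit, add_zero, decide_eq_true_eq]

end Cfsg.Agent.Leech
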