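import Cfsg.Agent.Leech.CrossStab
import Cfsg.Agent.Leech.MinCount

/-!
# Automorphisms of the lattice given by matrices

A matrix is a list `R` of 24 codes: `R_i = ∑_j (A_ij + 16) 32^j`; the automorphism is `x ↦ x A / 8`.
`matElt R C h : Co0` where `C` is the list of the codes of the columns and `h : matOK R C = true` is a kernel
check (orthogonality, lattice preserved).  `matElt_apply : 8 (g x)_p = ∑_i x_i A_ip`.
-/

set_option autoImplicit false

namespace Cfsg.Agent.Leech

open Cfsg
open Cfsg.Agent.Golay (fz fz_eq)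

/-- digit `j` in base 32 -/
def dg (n j : ℕ) : ℕ := Nat.land (Nat.shiftRight n (Nat.mul 5 j)) 31

theorem dg_eq (n j : ℕ) : dg n j = n / 32 ^ j % 32 := by
  unfold dg
  have h : Nat.shiftRight n (Nat.mul 5 j) = n / 32 ^ j := by
    have : n >>> (5 * j) = n / 2 ^ (5 * j) := Nat.shiftRight_eq_div_pow n (5 * j)
    rw [pow_mul] at this
    exact this
  rw [h]
  exact Nat.and_two_pow_sub_one_eq_mod _ 5

theorem dg_lt (n j : ℕ) : dg n j < 32 := by rw [dg_eq]; exact Nat.mod_lt _ (by norm_num)

/-- entry of the matrix -/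
def matA (R : List ℕ) (i j : ℕ) : ℤ := (dg (R.getD i 0) j : ℤ) - 16

/-- eight times the image -/
def act8 (R : List ℕ) (x : GolayPt → ℤ) (p : GolayPt) : ℤ :=
  ∑ i ∈ Finset.range 24, x (Golay.pt i) * matA R i (Golay.idx p)

/-! ### Scanning a vector -/

/-- scans `f (k-1), ..., f 0` -/
def scan (f : ℕ → ℕ) (k : ℕ) : ℕ → ℕ → ℕ → Bool :=
  Nat.rec (motive := fun _ => ℕ → ℕ → ℕ → Bool)
    (fun m1 m2 s => match Golay.inCode m2 with
      | true => (Nat.beq m1 0 && Nat.beq (Nat.mod s 8) 0) || (Nat.beq m1 16777215 && Nat.beq (Nat.mod s 8) 4)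
      | false => false)
    (fun k ih m1 m2 s => fz (f k) fun d => fz (Nat.add (Nat.mul m1 2) (Nat.mod d 2)) fun m1' =>
      fz (Nat.add (Nat.mul m2 2) (Nat.mod (Nat.div d 2) 2)) fun m2' => fz (Nat.add s d) fun s' => ih m1' m2' s') k

/-- mask with given bits -/
def bm (b : ℕ → ℕ) (k : ℕ) : ℕ := ∑ j ∈ Finset.range k, b j * 2 ^ j

theorem scan_eq (f : ℕ → ℕ) (k : ℕ) : ∀ m1 m2 s, scan f k m1 m2 s =
    scan f 0 (m1 * 2 ^ k + bm (fun j => f j % 2) k) (m2 * 2 ^ k + bm (fun j => f j / 2 % 2) k)
      (s + ∑ j ∈ Finset.range k, f j) := by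
  induction k with
  | zero => intro m1 m2 s; simp [bm]
  | succ k ih =>
    intro m1 m2 s
    have h1 : scan f (k + 1) m1 m2 s = (fz (f k) fun d => fz (Nat.add (Nat.mul m1 2) (Nat.mod d 2)) fun m1' =>
      fz (Nat.add (Nat.mul m2 2) (Nat.mod (Nat.div d 2) 2)) fun m2' => fz (Nat.add s d) fun s' => scan f k m1' m2' s') := rfl
    rw [h1, fz_eq, fz_eq, fz_eq, fz_eq, ih]
    have e1 : Nat.add (Nat.mul m1 2) (Nat.mod (f k) 2) = m1 * 2 + f k % 2 := rfl
    have e2 : Nat.add (Nat.mul m2 2) (Nat.mod (Nat.div (f k) 2) 2) = m2 * 2 + f k / 2 % 2 := rfl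
    have e3 : Nat.add s (f k) = s + f k := rfl
    rw [e1, e2, e3]
    unfold bm
    rw [Finset.sum_range_succ, Finset.sum_range_succ, Finset.sum_range_succ]
    congr 1
    · ring
    · ring
    · ring

theorem bm_lt (b : ℕ → ℕ) (hb : ∀ j, b j < 2) (k : ℕ) : bm b k < 2 ^ k := by
  induction k with
  | zero => simp [bm]
  | succ k ih =>
    unfold bm at *
    rw [Finset.sum_range_succ, pow_succ]
    have := hb k
    have : b k * 2 ^ k ≤ 1 * 2 ^ k := Nat.mul_le_mul_right _ (by omega)
    omega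

theorem testBit_bm (b : ℕ → ℕ) (hb : ∀ j, b j < 2) (k i : ℕ) (hi : i < k) :
    (bm b k).testBit i = decide (b i = 1) := by
  induction k with
  | zero => omega
  | succ k ih =>
    have h1 : bm b (k + 1) = 2 ^ k * b k + bm b k := by
      unfold bm; rw [Finset.sum_range_succ]; ring
    rw [h1, Nat.testBit_two_pow_mul_add _ (bm_lt b hb k)]
    split_ifs with h
    · exact ih h
    · have : i = k := by omega
      subst this
      rw [Nat.sub_self, Nat.testBit_zero]
      have := hb i
      congr 1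
      have h2 : b i % 2 = b i := Nat.mod_eq_of_lt this
      rw [h2]

theorem scan_zero (f : ℕ → ℕ) (m1 m2 s : ℕ) : scan f 0 m1 m2 s = true ↔ Golay.inCode m2 = true ∧
    ((m1 = 0 ∧ s % 8 = 0) ∨ (m1 = 16777215 ∧ s % 8 = 4)) := by
  have h1 : scan f 0 m1 m2 s = (match Golay.inCode m2 with
      | true => (Nat.beq m1 0 && Nat.beq (Nat.mod s 8) 0) || (Nat.beq m1 16777215 && Nat.beq (Nat.mod s 8) 4)
      | false => false) := rfl
  rw [h1]
  have h2 : Nat.mod s 8 = s % 8 := rfl
  rw [h2]
  cases Golay.inCode m2 with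
  | false => simp
  | true => simp only [Bool.or_eq_true, Bool.and_eq_true, Nat.beq_eq, true_and]

theorem mem_of_scan_aux (m1 m2 s : ℕ) (d : ℕ → ℕ) (t1 : ∀ p : GolayPt, m1.testBit (Golay.idx p) = decide (d (Golay.idx p) % 2 = 1))
    (t2 : ∀ p : GolayPt, m2.testBit (Golay.idx p) = decide (d (Golay.idx p) / 2 % 2 = 1))
    (hc : Golay.inCode m2 = true)
    (h : (m1 = 0 ∧ s % 8 = 0) ∨ (m1 = 16777215 ∧ s % 8 = 4)) (y : GolayPt → ℤ)
    (hy : ∀ p, ∃ k : ℤ, (d (Golay.idx p) : ℤ) = y p + 8 * k) (hsum : ∑ p, y p ≡ (s : ℤ) [ZMOD 8]) : y ∈ leechLattice := by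
  have hmem := Golay.ofMask_mem_supports hc
  rw [supports_mem_iff] at hmem
  have hlift : ∀ p, lift (fun i => if i ∈ Golay.ofMask m2 then (1 : ZMod 2) else 0) p =
      (d (Golay.idx p) / 2 % 2 : ℕ) := by
    intro p
    have hm : p ∈ Golay.ofMask m2 ↔ d (Golay.idx p) / 2 % 2 = 1 := by
      rw [Golay.mem_ofMask, t2, decide_eq_true_eq]
    by_cases h4 : d (Golay.idx p) / 2 % 2 = 1
    · have hp : (fun i => if i ∈ Golay.ofMask m2 then (1 : ZMod 2) else 0) p ≠ 0 := by
        show (if p ∈ Golay.ofMask m2 then (1 : ZMod 2) else 0) ≠ 0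
        rw [if_pos (hm.2 h4)]; exact one_ne_zero
      rw [h4, (lift_eq_one_iff _ p).2 hp]; rfl
    · have h5 : d (Golay.idx p) / 2 % 2 = 0 := by omega
      rw [h5, (lift_eq_zero_iff _ p).2 (if_neg (fun h => h4 (hm.1 h)))]; rfl
  rw [mem_iff]
  rcases h with ⟨h3, h4⟩ | ⟨h3, h4⟩
  · left
    refine ⟨_, hmem, fun p => ?_, ?_⟩
    · rw [hlift]
      have h5 := t1 p
      rw [h3, Nat.zero_testBit] at h5
      have h6 : ¬ d (Golay.idx p) % 2 = 1 := by
        intro h7; rw [decide_eq_true h7] at h5; exact Bool.false_ne_true h5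
      obtain ⟨k, hk⟩ := hy p
      unfold Int.ModEq
      omega
    · unfold Int.ModEq at *; omega
  · right
    refine ⟨_, hmem, fun p => ?_, ?_⟩
    · rw [hlift]
      have h5 := t1 p
      rw [h3] at h5
      have h9 : (16777215 : ℕ).testBit (Golay.idx p) = true := Golay.testBit_fullMask p
      rw [h9] at h5
      have h6 : d (Golay.idx p) % 2 = 1 := of_decide_eq_true h5.symm
      obtain ⟨k, hk⟩ := hy p
      unfold Int.ModEq
      omega
    · unfold Int.ModEq at *; omega

theorem mem_of_scan {f : ℕ → ℕ} (h : scan f 24 0 0 0 = true) (y : GolayPt → ℤ)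
    (hy : ∀ p, ∃ k : ℤ, (f (Golay.idx p) : ℤ) = y p + 8 * k) : y ∈ leechLattice := by
  rw [scan_eq, scan_zero] at h
  rw [zero_mul, zero_add, zero_add, zero_add] at h
  have b1 : ∀ j, (fun j => f j % 2) j < 2 := fun j => Nat.mod_lt _ (by norm_num)
  have b2 : ∀ j, (fun j => f j / 2 % 2) j < 2 := fun j => Nat.mod_lt _ (by norm_num)
  refine mem_of_scan_aux _ _ _ f (fun p => testBit_bm _ b1 24 _ (Golay.idx_lt p))
    (fun p => testBit_bm _ b2 24 _ (Golay.idx_lt p)) h.1 h.2 y hy ?_
  push_cast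
  have e : ∑ j ∈ Finset.range 24, (f j : ℤ) = ∑ p : GolayPt, (f (Golay.idx p) : ℤ) := by
    rw [sum_pts (f := fun p => (f (Golay.idx p) : ℤ))]
    exact Finset.sum_congr rfl (fun i hi => by rw [Golay.idx_pt (Finset.mem_range.1 hi)])
  rw [e]
  apply Int.ModEq.sum
  intro p _
  obtain ⟨k, hk⟩ := hy p
  rw [hk]
  unfold Int.ModEq
  omega

/-! ### The matrix checks -/

/-- sum of digits `j` of the rows in the list -/
def rsum (R : List ℕ) (ps : List ℕ) (j : ℕ) : ℕ :=
  List.rec (motive := fun _ => ℕ → ℕ) (fun acc => acc) (fun i _ ih acc => fz (Nat.add acc (dg (R.getD i 0) j)) fun a => ih a) ps 0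

theorem rsum_aux (R : List ℕ) (j : ℕ) (ps : List ℕ) : ∀ acc : ℕ,
    List.rec (motive := fun _ => ℕ → ℕ) (fun acc => acc)
      (fun i _ ih acc => fz (Nat.add acc (dg (R.getD i 0) j)) fun a => ih a) ps acc =
    acc + (ps.map fun i => dg (R.getD i 0) j).sum := by
  induction ps with
  | nil => intro acc; simp
  | cons i ps ih =>
    intro acc
    show (fz (Nat.add acc (dg (R.getD i 0) j)) fun a => _) = _
    rw [fz_eq, ih, List.map_cons, List.sum_cons]
    have : Nat.add acc (dg (R.getD i 0) j) = acc + dg (R.getD i 0) j := rfl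
    rw [this]; ring

theorem rsum_eq (R : List ℕ) (ps : List ℕ) (j : ℕ) : rsum R ps j = (ps.map fun i => dg (R.getD i 0) j).sum := by
  unfold rsum; rw [rsum_aux]; ring

/-- all `f 0, ..., f (k-1)` true -/
def allK (f : ℕ → Bool) (k : ℕ) : Bool :=
  Nat.rec (motive := fun _ => Bool) true (fun k ih => match f k with | true => ih | false => false) k

theorem allK_iff {f : ℕ → Bool} {k : ℕ} : allK f k = true ↔ ∀ i < k, f i = true := by
  induction k with
  | zero => simp [allK]
  | succ k ih =>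
    have h : allK f (k + 1) = (match f k with | true => allK f k | false => false) := rfl
    rw [h]
    constructor
    · intro h1 i hi
      cases hf : f k with
      | false => rw [hf] at h1; simp at h1
      | true =>
        rw [hf] at h1
        rcases Nat.lt_succ_iff_lt_or_eq.1 hi with h2 | h2
        · exact ih.1 h1 i h2
        · rw [h2]; exact hf
    · intro h1
      rw [h1 k (Nat.lt_succ_self k)]
      exact ih.2 (fun i hi => h1 i (Nat.lt_succ_of_lt hi))

/-- the images of the 37 generators of the lattice are in the lattice -/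
def latCheck (R : List ℕ) : Bool :=
  (scan (fun j => dg (R.getD 23 0) j) 24 0 0 0) &&
  allK (fun i => allK (fun j => Nat.beq (Nat.mod (Nat.add (dg (R.getD i 0) j) (dg (R.getD 23 0) j)) 2) 0) 24 &&
    scan (fun j => Nat.div (Nat.sub (Nat.add (dg (R.getD i 0) j) 32) (dg (R.getD 23 0) j)) 2) 24 0 0 0) 24 &&
  Golay.codeBasis.all (fun b => allK (fun j => Nat.beq (Nat.mod (rsum R (posOf b) j) 4) 0) 24 &&
    scan (fun j => Nat.div (rsum R (posOf b) j) 4) 24 0 0 0) &&
  allK (fun j => Nat.beq (Nat.mod (Nat.sub (Nat.add (rsum R (List.range 24) j) 128) (Nat.mul 4 (dg (R.getD 23 0) j))) 8) 0) 24 &&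
  scan (fun j => Nat.div (Nat.sub (Nat.add (rsum R (List.range 24) j) 128) (Nat.mul 4 (dg (R.getD 23 0) j))) 8) 24 0 0 0

/-- rows are orthogonal of norm 64: dot product of two rows, in offset form -/
def rdot (a b : ℕ) (k : ℕ) : ℕ → ℕ :=
  Nat.rec (motive := fun _ => ℕ → ℕ) (fun acc => acc)
    (fun k ih acc => fz (Nat.add acc (Nat.mul (dg a k) (dg b k))) fun t => ih t) k

theorem rdot_eq (a b k : ℕ) : ∀ acc, rdot a b k acc = acc + ∑ j ∈ Finset.range k, dg a j * dg b j := by
  induction k with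
  | zero => intro acc; simp [rdot]
  | succ k ih =>
    intro acc
    have h : rdot a b (k + 1) acc = (fz (Nat.add acc (Nat.mul (dg a k) (dg b k))) fun t => rdot a b k t) := rfl
    rw [h, fz_eq, ih, Finset.sum_range_succ]
    have : Nat.add acc (Nat.mul (dg a k) (dg b k)) = acc + dg a k * dg b k := rfl
    rw [this]; ring

/-- digit sum -/
def dsum (a : ℕ) (k : ℕ) : ℕ → ℕ :=
  Nat.rec (motive := fun _ => ℕ → ℕ) (fun acc => acc)
    (fun k ih acc => fz (Nat.add acc (dg a k)) fun t => ih t) k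

theorem dsum_eq (a k : ℕ) : ∀ acc, dsum a k acc = acc + ∑ j ∈ Finset.range k, dg a j := by
  induction k with
  | zero => intro acc; simp [dsum]
  | succ k ih =>
    intro acc
    have h : dsum a (k + 1) acc = (fz (Nat.add acc (dg a k)) fun t => dsum a k t) := rfl
    rw [h, fz_eq, ih, Finset.sum_range_succ]
    have : Nat.add acc (dg a k) = acc + dg a k := rfl
    rw [this]; ring

/-- `∑ (a_j - 16)(b_j - 16) = ∑ a_j b_j - 16 (∑ a_j + ∑ b_j) + 6144`; check it equals `64 δ` -/
def orthCheck (R : List ℕ) : Bool :=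
  allK (fun i => allK (fun k =>
    Nat.beq (Nat.add (rdot (R.getD i 0) (R.getD k 0) 24 0) 6144)
      (Nat.add (Nat.mul 16 (Nat.add (dsum (R.getD i 0) 24 0) (dsum (R.getD k 0) 24 0))) (if i = k then 64 else 0))) 24) 24

theorem orth_of_check {R : List ℕ} (h : orthCheck R = true) {i k : ℕ} (hi : i < 24) (hk : k < 24) :
    ∑ j ∈ Finset.range 24, matA R i j * matA R k j = if i = k then 64 else 0 := by
  unfold orthCheck at h
  have h1 := Nat.eq_of_beq_eq_true (allK_iff.1 (allK_iff.1 h i hi) k hk)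
  rw [rdot_eq, dsum_eq, dsum_eq] at h1
  have h2 : ∑ j ∈ Finset.range 24, matA R i j * matA R k j =
      ∑ j ∈ Finset.range 24, ((dg (R.getD i 0) j * dg (R.getD k 0) j : ℕ) : ℤ) -
      16 * (∑ j ∈ Finset.range 24, ((dg (R.getD i 0) j : ℕ) : ℤ) + ∑ j ∈ Finset.range 24, ((dg (R.getD k 0) j : ℕ) : ℤ)) + 6144 := by
    have h3 : ∀ j, matA R i j * matA R k j = ((dg (R.getD i 0) j * dg (R.getD k 0) j : ℕ) : ℤ) -
        16 * (((dg (R.getD i 0) j : ℕ) : ℤ) + ((dg (R.getD k 0) j : ℕ) : ℤ)) + 256 := by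
      intro j; unfold matA; push_cast; ring
    simp only [h3, Finset.sum_add_distrib, Finset.sum_sub_distrib, ← Finset.mul_sum, Finset.sum_const,
      Finset.card_range]
    norm_num
  rw [h2]
  simp only [Nat.add_eq, Nat.mul_eq, zero_add] at h1
  have h4 := congrArg (fun n : ℕ => (n : ℤ)) h1
  push_cast at h4 ⊢
  split_ifs at h4 ⊢ <;> linarith

/-- transposition check -/
def transCheck (R C : List ℕ) : Bool :=
  allK (fun i => allK (fun j => Nat.beq (dg (R.getD i 0) j) (dg (C.getD j 0) i)) 24) 24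

theorem trans_of_check {R C : List ℕ} (h : transCheck R C = true) {i j : ℕ} (hi : i < 24) (hj : j < 24) :
    matA R i j = matA C j i := by
  unfold transCheck at h
  have h1 := Nat.eq_of_beq_eq_true (allK_iff.1 (allK_iff.1 h i hi) j hj)
  unfold matA
  rw [h1]

def matOK (R C : List ℕ) : Bool :=
  latCheck R && latCheck C && orthCheck R && orthCheck C && transCheck R C

/-! ### The lattice is preserved -/

/-- `x ↦ x A` as an additive map -/
def actHom (R : List ℕ) : (GolayPt → ℤ) →+ (GolayPt → ℤ) where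
  toFun x := act8 R x
  map_zero' := by funext p; simp [act8]
  map_add' x y := by
    funext p
    simp only [act8, Pi.add_apply, add_mul, Finset.sum_add_distrib]

theorem actHom_apply (R : List ℕ) (x : GolayPt → ℤ) (p : GolayPt) : actHom R x p = act8 R x p := rfl

/-- multiplication by 8 -/
def mul8 : (GolayPt → ℤ) →+ (GolayPt → ℤ) where
  toFun x := (8 : ℤ) • x
  map_zero' := by simp
  map_add' x y := by simp

theorem act8_single (R : List ℕ) {i : ℕ} (hi : i < 24) (a : ℤ) (p : GolayPt) :
    act8 R (Pi.single (Golay.pt i) a) p = a * matA R i (Golay.idx p) := by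
  unfold act8
  rw [Finset.sum_eq_single i]
  · rw [Pi.single_eq_same]
  · intro j hj hne
    rw [Pi.single_eq_of_ne, zero_mul]
    intro h; exact hne (pt_inj (Finset.mem_range.1 hj) hi h)
  · intro h; exact absurd (Finset.mem_range.2 hi) h

theorem act8_ind2 (R : List ℕ) {ps : List ℕ} (hnd : ps.Nodup) (hlt : ∀ i ∈ ps, i < 24) (s : Finset GolayPt)
    (hs : ∀ i < 24, Golay.pt i ∈ s ↔ i ∈ ps) (p : GolayPt) :
    act8 R (ind2 s) p = 2 * ((ps.map fun i => matA R i (Golay.idx p)).sum) := by
  unfold act8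
  have h1 : ∀ i ∈ Finset.range 24, ind2 s (Golay.pt i) * matA R i (Golay.idx p) =
      if i ∈ ps.toFinset then 2 * matA R i (Golay.idx p) else 0 := by
    intro i hi
    unfold ind2
    by_cases h : i ∈ ps
    · rw [if_pos ((hs i (Finset.mem_range.1 hi)).2 h), if_pos (List.mem_toFinset.2 h)]
    · rw [if_neg (fun h' => h ((hs i (Finset.mem_range.1 hi)).1 h')), if_neg (fun h' => h (List.mem_toFinset.1 h')),
        zero_mul]
  rw [Finset.sum_congr rfl h1, Finset.sum_ite_mem, ← Finset.mul_sum]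
  congr 1
  have h2 : Finset.range 24 ∩ ps.toFinset = ps.toFinset := by
    ext i
    rw [Finset.mem_inter, List.mem_toFinset, Finset.mem_range]
    exact ⟨fun h => h.2, fun h => ⟨hlt i h, h⟩⟩
  rw [h2, List.sum_toFinset _ hnd]

theorem sum_matA (R : List ℕ) (ps : List ℕ) (j : ℕ) :
    (ps.map fun i => matA R i j).sum = ((rsum R ps j : ℕ) : ℤ) - 16 * ps.length := by
  rw [rsum_eq]
  induction ps with
  | nil => simp
  | cons i ps ih =>
    rw [List.map_cons, List.sum_cons, ih, List.map_cons, List.sum_cons, List.length_cons]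
    unfold matA
    push_cast
    ring

theorem posOf_basis_length {b : ℕ} (hb : b ∈ Golay.codeBasis) : (posOf b).length = 8 := by
  revert b; decide +kernel

theorem lat_of_check {R : List ℕ} (h : latCheck R = true) :
    leechLattice ≤ (leechLattice.map mul8).comap (actHom R) := by
  unfold latCheck at h
  simp only [Bool.and_eq_true] at h
  obtain ⟨⟨⟨⟨h1, h2⟩, h3⟩, h4⟩, h5⟩ := h
  have hn : (none : GolayPt) = Golay.pt 23 := by decide
  apply leech_gen
  · -- 8 e_none
    have hm := mem_of_scan h1 (fun p => matA R 23 (Golay.idx p)) (fun p => ⟨2, by unfold matA; ring⟩)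
    refine ⟨_, hm, ?_⟩
    funext p
    rw [actHom_apply, hn, act8_single R (by norm_num)]
    rfl
  · intro i
    have hi := allK_iff.1 h2 (Golay.idx i) (Golay.idx_lt i)
    rw [Bool.and_eq_true] at hi
    obtain ⟨k1, k2⟩ := hi
    have hev : ∀ p : GolayPt, (dg (R.getD (Golay.idx i) 0) (Golay.idx p) + dg (R.getD 23 0) (Golay.idx p)) % 2 = 0 := by
      intro p
      exact Nat.eq_of_beq_eq_true (allK_iff.1 k1 (Golay.idx p) (Golay.idx_lt p))
    have hm := mem_of_scan k2 (fun p => (matA R (Golay.idx i) (Golay.idx p) - matA R 23 (Golay.idx p)) / 2) (by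
      intro p
      have e1 := hev p
      have e2 := dg_lt (R.getD 23 0) (Golay.idx p)
      refine ⟨2, ?_⟩
      have e3 : Nat.div (Nat.sub (Nat.add (dg (R.getD (Golay.idx i) 0) (Golay.idx p)) 32) (dg (R.getD 23 0) (Golay.idx p))) 2
          = (dg (R.getD (Golay.idx i) 0) (Golay.idx p) + 32 - dg (R.getD 23 0) (Golay.idx p)) / 2 := rfl
      rw [e3]
      unfold matA
      omega)
    refine ⟨_, hm, ?_⟩
    funext p
    have e1 := hev p
    rw [map_sub, Pi.sub_apply, actHom_apply, actHom_apply, hn, act8_single R (by norm_num)]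
    have e4 : (Pi.single i 4 : GolayPt → ℤ) = Pi.single (Golay.pt (Golay.idx i)) 4 := by rw [Golay.pt_idx]
    rw [e4, act8_single R (Golay.idx_lt i)]
    show (8 : ℤ) • ((matA R (Golay.idx i) (Golay.idx p) - matA R 23 (Golay.idx p)) / 2) = _
    rw [smul_eq_mul]
    unfold matA
    omega
  · intro b hb
    have hb' := List.all_eq_true.1 h3 b hb
    rw [Bool.and_eq_true] at hb'
    obtain ⟨k1, k2⟩ := hb'
    have hev : ∀ p : GolayPt, rsum R (posOf b) (Golay.idx p) % 4 = 0 := by
      intro p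
      exact Nat.eq_of_beq_eq_true (allK_iff.1 k1 (Golay.idx p) (Golay.idx_lt p))
    have hlen := posOf_basis_length hb
    have hm := mem_of_scan k2 (fun p => (((rsum R (posOf b) (Golay.idx p) : ℕ) : ℤ) - 16 * 8) / 4) (by
      intro p
      have e1 := hev p
      refine ⟨4, ?_⟩
      have e3 : Nat.div (rsum R (posOf b) (Golay.idx p)) 4 = rsum R (posOf b) (Golay.idx p) / 4 := rfl
      rw [e3]
      push_cast
      omega)
    refine ⟨_, hm, ?_⟩
    funext p
    have e1 := hev p
    rw [actHom_apply, act8_ind2 R (posOf_nodup b) (fun i hi => (mem_posOf.1 hi).1)]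
    · rw [sum_matA, hlen]
      show (8 : ℤ) • ((((rsum R (posOf b) (Golay.idx p) : ℕ) : ℤ) - 16 * 8) / 4) = _
      rw [smul_eq_mul]
      push_cast
      omega
    · intro i hi
      rw [Golay.mem_ofMask, Golay.idx_pt hi, mem_posOf]
      exact ⟨fun h => ⟨hi, h⟩, fun h => h.2⟩
  · have hev : ∀ p : GolayPt, (rsum R (List.range 24) (Golay.idx p) + 128 - 4 * dg (R.getD 23 0) (Golay.idx p)) % 8 = 0 := by
      intro p
      exact Nat.eq_of_beq_eq_true (allK_iff.1 h4 (Golay.idx p) (Golay.idx_lt p))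
    have hm := mem_of_scan h5 (fun p => (((rsum R (List.range 24) (Golay.idx p) : ℕ) : ℤ) - 16 * 24 -
        4 * matA R 23 (Golay.idx p)) / 8) (by
      intro p
      have e1 := hev p
      have e2 := dg_lt (R.getD 23 0) (Golay.idx p)
      have e3 : Nat.div (Nat.sub (Nat.add (rsum R (List.range 24) (Golay.idx p)) 128) (Nat.mul 4 (dg (R.getD 23 0) (Golay.idx p)))) 8
          = (rsum R (List.range 24) (Golay.idx p) + 128 - 4 * dg (R.getD 23 0) (Golay.idx p)) / 8 := rfl
      rw [e3]
      unfold matA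
      -- (S + 128 - 4 d) / 8 = (S - 384 - 4 (d - 16)) / 8 + 8 * 7
      refine ⟨7, ?_⟩
      omega)
    refine ⟨_, hm, ?_⟩
    funext p
    have e1 := hev p
    have e2 := dg_lt (R.getD 23 0) (Golay.idx p)
    have hodd : oddVec' = ∑ i ∈ Finset.range 24, (Pi.single (Golay.pt i) 1 : GolayPt → ℤ) - Pi.single (Golay.pt 23) 4 := by
      funext q
      rw [Pi.sub_apply, Finset.sum_apply]
      have e5 : ∑ i ∈ Finset.range 24, (Pi.single (Golay.pt i) 1 : GolayPt → ℤ) q = 1 := by
        rw [Finset.sum_eq_single (Golay.idx q)]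
        · rw [Golay.pt_idx, Pi.single_eq_same]
        · intro j hj hne
          rw [Pi.single_eq_of_ne]
          intro h; apply hne; rw [h, Golay.idx_pt (Finset.mem_range.1 hj)]
        · intro h; exact absurd (Finset.mem_range.2 (Golay.idx_lt q)) h
      rw [e5, ← hn, Pi.single_apply]
      unfold oddVec'
      split_ifs <;> norm_num
    rw [hodd, map_sub, map_sum, Pi.sub_apply, Finset.sum_apply, actHom_apply, act8_single R (by norm_num)]
    have e6 : ∑ i ∈ Finset.range 24, actHom R (Pi.single (Golay.pt i) 1) p =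
        ((List.range 24).map fun i => matA R i (Golay.idx p)).sum := by
      rw [← List.sum_toFinset _ List.nodup_range, List.toFinset_range]
      apply Finset.sum_congr rfl
      intro i hi
      rw [actHom_apply, act8_single R (Finset.mem_range.1 hi), one_mul]
    rw [e6, sum_matA]
    show (8 : ℤ) • ((((rsum R (List.range 24) (Golay.idx p) : ℕ) : ℤ) - 16 * 24 -
        4 * matA R 23 (Golay.idx p)) / 8) = _
    rw [smul_eq_mul, List.length_range]
    unfold matA
    push_cast
    omega

theorem exists_eighth {R : List ℕ} (h : latCheck R = true) (x : leechLattice) :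
    ∃ y : leechLattice, ∀ p, 8 * (y : GolayPt → ℤ) p = act8 R x p := by
  obtain ⟨y, hy, hxy⟩ := lat_of_check h x.2
  refine ⟨⟨y, hy⟩, fun p => ?_⟩
  have := congrFun hxy p
  exact this

/-- the automorphism -/
noncomputable def matFun (R : List ℕ) (h : latCheck R = true) (x : leechLattice) : leechLattice :=
  (exists_eighth h x).choose

theorem matFun_spec (R : List ℕ) (h : latCheck R = true) (x : leechLattice) (p : GolayPt) :
    8 * (matFun R h x : GolayPt → ℤ) p = act8 R x p := (exists_eighth h x).choose_spec p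

theorem act8_idx (R : List ℕ) (x : GolayPt → ℤ) (p : GolayPt) :
    act8 R x p = ∑ q : GolayPt, x q * matA R (Golay.idx q) (Golay.idx p) := by
  rw [sum_pts]
  unfold act8
  exact Finset.sum_congr rfl (fun i hi => by rw [Golay.idx_pt (Finset.mem_range.1 hi)])

theorem orth_pts {R : List ℕ} (h : orthCheck R = true) (q r : GolayPt) :
    ∑ p : GolayPt, matA R (Golay.idx q) (Golay.idx p) * matA R (Golay.idx r) (Golay.idx p) = if q = r then 64 else 0 := by
  rw [sum_pts]
  have := orth_of_check h (Golay.idx_lt q) (Golay.idx_lt r)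
  simp only [Golay.idx_inj] at this
  rw [← this]
  exact Finset.sum_congr rfl (fun i hi => by rw [Golay.idx_pt (Finset.mem_range.1 hi)])

theorem matFun_inv {R C : List ℕ} (hR : latCheck R = true) (hC : latCheck C = true) (ho : orthCheck R = true)
    (ht : ∀ {i j : ℕ}, i < 24 → j < 24 → matA R i j = matA C j i) (x : leechLattice) :
    matFun C hC (matFun R hR x) = x := by
  apply Subtype.ext
  funext p
  have h1 := matFun_spec C hC (matFun R hR x) p
  rw [act8_idx] at h1
  have h2 : 8 * ∑ q : GolayPt, (matFun R hR x : GolayPt → ℤ) q * matA C (Golay.idx q) (Golay.idx p) =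
      ∑ q : GolayPt, ∑ r : GolayPt, (x : GolayPt → ℤ) r * (matA R (Golay.idx r) (Golay.idx q) *
        matA R (Golay.idx p) (Golay.idx q)) := by
    rw [Finset.mul_sum]
    apply Finset.sum_congr rfl
    intro q _
    rw [← mul_assoc, matFun_spec, act8_idx, Finset.sum_mul, ← ht (Golay.idx_lt p) (Golay.idx_lt q)]
    exact Finset.sum_congr rfl (fun r _ => by ring)
  rw [Finset.sum_comm] at h2
  have h3 : ∀ r : GolayPt, ∑ q : GolayPt, (x : GolayPt → ℤ) r * (matA R (Golay.idx r) (Golay.idx q) *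
        matA R (Golay.idx p) (Golay.idx q)) = if r = p then 64 * (x : GolayPt → ℤ) r else 0 := by
    intro r
    rw [← Finset.mul_sum, orth_pts ho]
    split_ifs <;> ring
  rw [Finset.sum_congr rfl (fun r _ => h3 r), Finset.sum_ite_eq', if_pos (Finset.mem_univ p)] at h2
  omega

theorem matFun_add {R : List ℕ} (h : latCheck R = true) (x y : leechLattice) :
    matFun R h (x + y) = matFun R h x + matFun R h y := by
  apply Subtype.ext
  funext p
  have h1 := matFun_spec R h (x + y) p
  have h2 := matFun_spec R h x p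
  have h3 := matFun_spec R h y p
  have h4 : act8 R ((x + y : leechLattice) : GolayPt → ℤ) p = act8 R x p + act8 R y p := by
    rw [AddSubgroup.coe_add, ← actHom_apply, map_add]; rfl
  rw [AddSubgroup.coe_add, Pi.add_apply]
  omega

theorem matFun_norm {R : List ℕ} (h : latCheck R = true) (ho : orthCheck R = true) (x : leechLattice) :
    sqNorm ((matFun R h x : leechLattice) : GolayPt → ℤ) = sqNorm (x : GolayPt → ℤ) := by
  have h1 : 64 * sqNorm ((matFun R h x : leechLattice) : GolayPt → ℤ) = ∑ p, act8 R x p ^ 2 := by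
    unfold sqNorm
    rw [Finset.mul_sum]
    exact Finset.sum_congr rfl (fun p _ => by rw [← matFun_spec R h]; ring)
  have h2 : ∑ p, act8 R (x : GolayPt → ℤ) p ^ 2 = 64 * sqNorm (x : GolayPt → ℤ) := by
    have e1 : ∀ p, act8 R (x : GolayPt → ℤ) p ^ 2 = ∑ q : GolayPt, ∑ r : GolayPt, (x : GolayPt → ℤ) q * (x : GolayPt → ℤ) r *
        (matA R (Golay.idx q) (Golay.idx p) * matA R (Golay.idx r) (Golay.idx p)) := by
      intro p
      rw [act8_idx, sq, Finset.sum_mul]
      apply Finset.sum_congr rfl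
      intro q _
      rw [Finset.mul_sum]
      exact Finset.sum_congr rfl (fun r _ => by ring)
    simp only [e1]
    rw [Finset.sum_comm]
    have e2 : ∀ q : GolayPt, ∑ p, ∑ r : GolayPt, (x : GolayPt → ℤ) q * (x : GolayPt → ℤ) r *
        (matA R (Golay.idx q) (Golay.idx p) * matA R (Golay.idx r) (Golay.idx p)) = 64 * (x : GolayPt → ℤ) q ^ 2 := by
      intro q
      rw [Finset.sum_comm]
      have e3 : ∀ r : GolayPt, ∑ p, (x : GolayPt → ℤ) q * (x : GolayPt → ℤ) r *
        (matA R (Golay.idx q) (Golay.idx p) * matA R (Golay.idx r) (Golay.idx p)) =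
          if r = q then 64 * (x : GolayPt → ℤ) q * (x : GolayPt → ℤ) r else 0 := by
        intro r
        rw [← Finset.mul_sum, orth_pts ho]
        by_cases h : q = r
        · subst h; rw [if_pos rfl, if_pos rfl]; ring
        · rw [if_neg h, if_neg (Ne.symm h)]; ring
      rw [Finset.sum_congr rfl (fun r _ => e3 r), Finset.sum_ite_eq', if_pos (Finset.mem_univ q)]
      ring
    simp only [e2]
    unfold sqNorm
    rw [Finset.mul_sum]
  omega

/-- The automorphism given by the matrix with row codes `R` and column codes `C`. -/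
noncomputable def matElt (R C : List ℕ) (h : matOK R C = true) : Co0 :=
  have h' : ((((latCheck R = true ∧ latCheck C = true) ∧ orthCheck R = true) ∧ orthCheck C = true) ∧
      transCheck R C = true) := by
    unfold matOK at h
    simpa only [Bool.and_eq_true] using h
  mkElt (matFun R h'.1.1.1.1) (matFun C h'.1.1.1.2)
    (matFun_inv h'.1.1.1.1 h'.1.1.1.2 h'.1.1.2 (fun hi hj => trans_of_check h'.2 hi hj))
    (matFun_inv h'.1.1.1.2 h'.1.1.1.1 h'.1.2 (fun hi hj => (trans_of_check h'.2 hj hi).symm))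
    (matFun_add h'.1.1.1.1) (matFun_norm h'.1.1.1.1 h'.1.1.2)

theorem matElt_apply (R C : List ℕ) (h : matOK R C = true) (x : leechLattice) (p : GolayPt) :
    8 * ((matElt R C h • x : leechLattice) : GolayPt → ℤ) p = act8 R x p := by
  unfold matElt
  rw [mkElt_smul]
  exact matFun_spec R _ x p

end Cfsg.Agent.Leech
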