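import Cfsg.Agent.Leech.Max

/-!
# The list of the 196560 minimal vectors

`minList` (not for evaluation): `mem_minList`, `minList_nodup`.
-/

set_option autoImplicit false

namespace Cfsg.Agent.Leech

open Cfsg

/-! ### Selecting the positions of the bits of a mask -/

/-- the members of `l` selected by the bits of `o`, pushed on `acc` -/
def selG {α : Type} : List α → ℕ → List α → List α
  | [], _, acc => acc
  | p :: l, o, acc => selG l (o / 2) (if o % 2 = 1 then p :: acc else acc)

theorem mem_selG (n : ℕ) : ∀ (k o : ℕ) (acc : List ℕ) (p : ℕ), p ∈ selG (List.range' k n) o acc ↔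
    p ∈ acc ∨ ∃ i < n, p = k + i ∧ o.testBit i = true := by
  induction n with
  | zero => intro k o acc p; simp [selG]
  | succ n ih =>
    intro k o acc p
    rw [List.range'_succ]
    simp only [selG]
    rw [ih]
    have h0 : o.testBit 0 = true ↔ o % 2 = 1 := by rw [Nat.testBit_zero, decide_eq_true_eq]
    have hs : ∀ i, (o / 2).testBit i = o.testBit (i + 1) := fun i => (Nat.testBit_succ o i).symm
    constructor
    · rintro (h | ⟨i, hi, h1, h2⟩)
      · split_ifs at h with ho
        · rcases List.mem_cons.1 h with rfl | h
          · exact Or.inr ⟨0, Nat.succ_pos n, rfl, h0.2 ho⟩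
          · exact Or.inl h
        · exact Or.inl h
      · exact Or.inr ⟨i + 1, by omega, by omega, by rw [← hs]; exact h2⟩
    · rintro (h | ⟨i, hi, h1, h2⟩)
      · left; split_ifs
        · exact List.mem_cons_of_mem _ h
        · exact h
      · cases i with
        | zero =>
          left
          rw [if_pos (h0.1 h2), h1]
          exact List.mem_cons_self
        | succ i => exact Or.inr ⟨i, by omega, by omega, by rw [hs]; exact h2⟩

theorem selG_nodup {α : Type} (l : List α) : ∀ (o : ℕ) (acc : List α), l.Nodup → acc.Nodup →
    (∀ p ∈ l, p ∉ acc) → (selG l o acc).Nodup := by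
  induction l with
  | nil => intro o acc _ h _; exact h
  | cons p l ih =>
    intro o acc hl hacc hd
    simp only [selG]
    rw [List.nodup_cons] at hl
    apply ih _ _ hl.2
    · split_ifs
      · exact List.nodup_cons.2 ⟨hd p List.mem_cons_self, hacc⟩
      · exact hacc
    · intro q hq
      have h1 := hd q (List.mem_cons_of_mem _ hq)
      split_ifs
      · rw [List.mem_cons, not_or]
        exact ⟨fun h => hl.1 (h ▸ hq), h1⟩
      · exact h1

theorem selG_map {α β : Type} (f : α → β) (l : List α) : ∀ (o : ℕ) (acc : List α),
    selG (l.map f) o (acc.map f) = (selG l o acc).map f := by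
  induction l with
  | nil => intro o acc; rfl
  | cons p l ih =>
    intro o acc
    simp only [List.map_cons, selG]
    rw [← ih]
    congr 1
    split_ifs <;> rfl

/-- positions of the bits below 24 -/
def posOf (o : ℕ) : List ℕ := selG (List.range' 0 24) o []

theorem mem_posOf {o p : ℕ} : p ∈ posOf o ↔ p < 24 ∧ o.testBit p = true := by
  unfold posOf
  rw [mem_selG]
  simp only [List.not_mem_nil, false_or, zero_add]
  constructor
  · rintro ⟨i, h1, rfl, h2⟩; exact ⟨h1, h2⟩
  · rintro ⟨h1, h2⟩; exact ⟨p, h1, rfl, h2⟩

theorem posOf_nodup (o : ℕ) : (posOf o).Nodup :=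
  selG_nodup _ _ _ (List.nodup_range') List.nodup_nil (by simp)

/-! ### Signed vectors -/

/-- vectors `±2` on the positions of the list, with parity of the number of minus signs -/
def signVecs : List ℕ → Bool → List (GolayPt → ℤ)
  | [], false => [0]
  | [], true => []
  | p :: ps, b => (signVecs ps b).map (fun x => x + Pi.single (Golay.pt p) 2) ++
      (signVecs ps (!b)).map (fun x => x + Pi.single (Golay.pt p) (-2))

theorem length_signVecs (ps : List ℕ) : ∀ b, (signVecs ps b).length + (signVecs ps (!b)).length = 2 ^ ps.length := by
  induction ps with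
  | nil => intro b; cases b <;> simp [signVecs]
  | cons p ps ih =>
    intro b
    simp only [signVecs, List.length_append, List.length_map, List.length_cons, Bool.not_not]
    have := ih b
    rw [pow_succ]; omega

theorem length_signVecs' (p : ℕ) (ps : List ℕ) (b : Bool) : (signVecs (p :: ps) b).length = 2 ^ ps.length := by
  simp only [signVecs, List.length_append, List.length_map]
  exact length_signVecs ps b

theorem mem_signVecs (ps : List ℕ) : ∀ (x : GolayPt → ℤ), ps.Nodup → (∀ p ∈ ps, p < 24) →
    (∀ p ∈ ps, x (Golay.pt p) = 2 ∨ x (Golay.pt p) = -2) → (∀ i, (∀ p ∈ ps, Golay.pt p ≠ i) → x i = 0) →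
    ∃ b, x ∈ signVecs ps b ∧ ∑ i, x i ≡ 2 * ps.length + (if b then 4 else 0) [ZMOD 8] := by
  induction ps with
  | nil =>
    intro x _ _ _ h0
    have : x = 0 := funext (fun i => h0 i (by simp))
    subst this
    exact ⟨false, by simp [signVecs], by simp⟩
  | cons p ps ih =>
    intro x hnd hlt h2 h0
    rw [List.nodup_cons] at hnd
    have hne : ∀ q ∈ ps, Golay.pt q ≠ Golay.pt p := by
      intro q hq h
      have h3 := congrArg Golay.idx h
      rw [Golay.idx_pt (hlt q (List.mem_cons_of_mem _ hq)), Golay.idx_pt (hlt p List.mem_cons_self)] at h3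
      exact hnd.1 (h3 ▸ hq)
    obtain ⟨b, hb, hs⟩ := ih (x + Pi.single (Golay.pt p) (-x (Golay.pt p))) hnd.2
      (fun q hq => hlt q (List.mem_cons_of_mem _ hq))
      (by
        intro q hq
        rw [Pi.add_apply, Pi.single_eq_of_ne (hne q hq), add_zero]
        exact h2 q (List.mem_cons_of_mem _ hq))
      (by
        intro i hi
        by_cases hip : i = Golay.pt p
        · subst hip; simp
        · rw [Pi.add_apply, Pi.single_eq_of_ne hip, add_zero]
          apply h0
          intro q hq
          rcases List.mem_cons.1 hq with rfl | hq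
          · exact fun h => hip h.symm
          · exact hi q hq)
    have hsum : ∑ i, (x + Pi.single (Golay.pt p) (-x (Golay.pt p)) : GolayPt → ℤ) i =
        ∑ i, x i - x (Golay.pt p) := by
      simp only [Pi.add_apply, Finset.sum_add_distrib]
      rw [Finset.sum_pi_single', if_pos (Finset.mem_univ _)]
      ring
    rw [hsum] at hs
    rcases h2 p List.mem_cons_self with h | h
    · refine ⟨b, ?_, ?_⟩
      · simp only [signVecs, List.mem_append, List.mem_map]
        left
        refine ⟨_, hb, ?_⟩
        funext i
        simp only [Pi.add_apply, Pi.single_apply, h]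
        split_ifs <;> ring
      · rw [h] at hs
        rw [List.length_cons]
        push_cast
        unfold Int.ModEq at *
        cases b <;> simp at hs ⊢ <;> omega
    · refine ⟨!b, ?_, ?_⟩
      · simp only [signVecs, List.mem_append, List.mem_map, Bool.not_not]
        right
        refine ⟨_, hb, ?_⟩
        funext i
        simp only [Pi.add_apply, Pi.single_apply, h]
        split_ifs <;> ring
      · rw [h] at hs
        rw [List.length_cons]
        push_cast
        unfold Int.ModEq at *
        cases b <;> simp at hs ⊢ <;> omega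

/-! ### The list -/

/-- `(±4, ±4, 0^22)` -/
def L1 : List (GolayPt → ℤ) :=
  (List.range 24).flatMap fun j => (List.range j).flatMap fun i =>
    [twoVec 4 4 (Golay.pt i) (Golay.pt j), twoVec 4 (-4) (Golay.pt i) (Golay.pt j),
     twoVec (-4) 4 (Golay.pt i) (Golay.pt j), twoVec (-4) (-4) (Golay.pt i) (Golay.pt j)]

/-- `(±2^8, 0^16)` -/
def L2 : List (GolayPt → ℤ) := Golay.octadList.flatMap fun o => signVecs (posOf o) false

/-- `(∓3, ±1^23)` -/
def oddV (m j : ℕ) : GolayPt → ℤ := fun p =>
  (if m.testBit (Golay.idx p) then -1 else 1) * (if Golay.idx p = j then -3 else 1)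

def L3 : List (GolayPt → ℤ) :=
  (List.range 4096).flatMap fun n => (List.range 24).map fun j => oddV (Golay.enc n) j

def minList : List (GolayPt → ℤ) := L1 ++ (L2 ++ L3)

theorem length_L1 : L1.length = 1104 := by
  unfold L1
  simp only [List.length_flatMap, List.length_cons, List.length_nil, List.map_const']
  decide +kernel

theorem posOf_length_check : Golay.octadList.all (fun o => Nat.beq (posOf o).length 8) = true := by
  decide +kernel

theorem posOf_length {o : ℕ} (ho : o ∈ Golay.octadList) : (posOf o).length = 8 := by
  have := List.all_eq_true.1 posOf_length_check o ho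
  simpa using this

theorem length_signVecs_oct {o : ℕ} (ho : o ∈ Golay.octadList) (b : Bool) : (signVecs (posOf o) b).length = 128 := by
  have h := posOf_length ho
  cases hp : posOf o with
  | nil => rw [hp] at h; simp at h
  | cons p ps =>
    rw [hp] at h
    rw [length_signVecs']
    have : ps.length = 7 := by simpa using h
    rw [this]; norm_num

theorem length_L2 : L2.length = 97152 := by
  unfold L2
  rw [List.length_flatMap]
  have : (Golay.octadList.map fun o => (signVecs (posOf o) false).length) =
      Golay.octadList.map fun _ => 128 := by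
    apply List.map_congr_left
    intro o ho
    exact length_signVecs_oct ho false
  rw [this, List.map_const', List.sum_replicate, Golay.octadList_length]
  norm_num

theorem length_L3 : L3.length = 98304 := by
  unfold L3
  rw [List.length_flatMap]
  simp only [List.length_map, List.length_range, List.map_const', List.sum_replicate]
  norm_num

theorem length_minList : minList.length = 196560 := by
  unfold minList
  rw [List.length_append, List.length_append, length_L1, length_L2, length_L3]

theorem mem_L1_of {x : GolayPt → ℤ} {a b : GolayPt} (hab : a ≠ b) (ha : x a = 4 ∨ x a = -4)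
    (hb : x b = 4 ∨ x b = -4) (h0 : ∀ i, i ≠ a → i ≠ b → x i = 0) : x ∈ L1 := by
  have key : ∀ {a b : GolayPt}, Golay.idx a < Golay.idx b → (x a = 4 ∨ x a = -4) → (x b = 4 ∨ x b = -4) →
      (∀ i, i ≠ a → i ≠ b → x i = 0) → x ∈ L1 := by
    intro a b hlt ha hb h0
    unfold L1
    rw [List.mem_flatMap]
    refine ⟨Golay.idx b, List.mem_range.2 (Golay.idx_lt b), ?_⟩
    rw [List.mem_flatMap]
    refine ⟨Golay.idx a, List.mem_range.2 hlt, ?_⟩
    rw [Golay.pt_idx, Golay.pt_idx]
    have hne : a ≠ b := by rintro rfl; exact lt_irrefl _ hlt
    have hx : x = twoVec (x a) (x b) a b := by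
      funext i
      unfold twoVec
      rw [Pi.add_apply, Pi.single_apply, Pi.single_apply]
      by_cases h1 : i = a
      · subst h1; rw [if_pos rfl, if_neg hne]; ring
      · by_cases h2 : i = b
        · subst h2; rw [if_neg h1, if_pos rfl]; ring
        · rw [if_neg h1, if_neg h2, h0 i h1 h2]; ring
    rw [hx]
    rcases ha with h | h <;> rcases hb with h' | h' <;> rw [h, h'] <;> simp
  rcases lt_trichotomy (Golay.idx a) (Golay.idx b) with h | h | h
  · exact key h ha hb h0
  · exact absurd (Golay.idx_injective h) hab
  · exact key h hb ha (fun i h1 h2 => h0 i h2 h1)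

theorem mem_minList {x : GolayPt → ℤ} (hx : x ∈ leechLattice) (hn : sqNorm x = 32) : x ∈ minList := by
  unfold minList
  rw [List.mem_append, List.mem_append]
  rcases (mem_iff x).1 hx with he | ho
  · obtain ⟨e1, e2, e3⟩ := cnt_even he (by omega)
    rw [hn] at e2
    have hl : ∀ j, (x j).natAbs = 0 ∨ (x j).natAbs = 2 ∨ (x j).natAbs = 4 ∨ (x j).natAbs = 6 ∨
        (x j).natAbs = 8 := by
      intro j
      have h7 := abs_le_of_norm hn (by norm_num) j
      have h8 := even_dvd he j
      omega
    by_cases h4 : cnt x 4 = 2
    · left
      obtain ⟨a, b, hab, hset⟩ := Finset.card_eq_two.1 h4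
      have ha : (x a).natAbs = 4 := by
        have : a ∈ (Finset.univ.filter fun i => (x i).natAbs = 4) := by rw [hset]; simp
        exact (Finset.mem_filter.1 this).2
      have hb : (x b).natAbs = 4 := by
        have : b ∈ (Finset.univ.filter fun i => (x i).natAbs = 4) := by rw [hset]; simp
        exact (Finset.mem_filter.1 this).2
      apply mem_L1_of hab (by omega) (by omega)
      intro j hja hjb
      rcases hl j with h | h | h | h | h
      · exact Int.natAbs_eq_zero.1 h
      · have := le_cnt x j h; omega
      · exfalso
        have : j ∈ (Finset.univ.filter fun i => (x i).natAbs = 4) := by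
          rw [Finset.mem_filter]; exact ⟨Finset.mem_univ j, h⟩
        rw [hset, Finset.mem_insert, Finset.mem_singleton] at this
        tauto
      · have := le_cnt x j h; omega
      · have := le_cnt x j h; omega
    · right; left
      have h2 : cnt x 2 = 8 := by omega
      have hn4 : cnt x 4 = 0 := by omega
      have hn6 : cnt x 6 = 0 := by omega
      have hn8 : cnt x 8 = 0 := by omega
      have hval : ∀ j, x j = 0 ∨ x j = 2 ∨ x j = -2 := by
        intro j
        rcases hl j with h | h | h | h | h
        · omega
        · omega
        · have := le_cnt x j h; omega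
        · have := le_cnt x j h; omega
        · have := le_cnt x j h; omega
      obtain ⟨c, hc, h4', hs⟩ := he
      have hsup : ∀ j, j ∈ support₂ c ↔ (x j = 2 ∨ x j = -2) := by
        intro j
        simp only [support₂, Finset.mem_filter, Finset.mem_univ, true_and]
        have h5 := h4' j
        by_cases h6 : c j = 0
        · rw [(lift_eq_zero_iff c j).2 h6] at h5
          simp only [h6, ne_eq, not_true, false_iff]
          unfold Int.ModEq at h5
          have := hval j
          omega
        · rw [(lift_eq_one_iff c j).2 h6] at h5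
          simp only [ne_eq, h6, not_false_eq_true, true_iff]
          unfold Int.ModEq at h5
          have := hval j
          omega
      have hoct : support₂ c ∈ octads := by
        refine ⟨⟨c, hc, rfl⟩, ?_⟩
        rw [← h2]
        unfold cnt
        congr 1
        ext j
        rw [hsup, Finset.mem_filter]
        have := hval j
        constructor
        · intro h; refine ⟨Finset.mem_univ _, ?_⟩; omega
        · rintro ⟨-, h⟩; omega
      have hmem := Golay.mem_octads_iff_mem_list.1 hoct
      unfold L2
      rw [List.mem_flatMap]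
      refine ⟨_, hmem, ?_⟩
      have hpos : ∀ p, p ∈ posOf (Golay.maskOf (support₂ c)) ↔ p < 24 ∧ Golay.pt p ∈ support₂ c := by
        intro p
        rw [mem_posOf]
        constructor
        · rintro ⟨h1, h2⟩
          rw [Golay.testBit_maskOf_lt _ h1, decide_eq_true_eq] at h2
          exact ⟨h1, h2⟩
        · rintro ⟨h1, h2⟩
          refine ⟨h1, ?_⟩
          rw [Golay.testBit_maskOf_lt _ h1, decide_eq_true_eq]; exact h2
      obtain ⟨b, hb, hs'⟩ := mem_signVecs (posOf (Golay.maskOf (support₂ c))) x (posOf_nodup _)
        (fun p hp => ((hpos p).1 hp).1)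
        (fun p hp => (hsup _).1 ((hpos p).1 hp).2)
        (by
          intro i hi
          rcases hval i with h | h
          · exact h
          · exfalso
            have h1 := (hsup i).2 h
            exact hi (Golay.idx i) ((hpos _).2 ⟨Golay.idx_lt i, by rw [Golay.pt_idx]; exact h1⟩) (Golay.pt_idx i))
      rw [posOf_length hmem] at hs'
      cases b
      · exact hb
      · exfalso
        have h20 : ∑ i, x i ≡ 2 * ((8 : ℕ) : ℤ) + 4 [ZMOD 8] := hs'
        have h21 := hs.symm.trans h20
        exact absurd h21 (by decide)
  · right; right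
    obtain ⟨e1, e2⟩ := cnt_odd ho (by omega)
    rw [hn] at e2
    have h3 : cnt x 3 = 1 := by omega
    have h5 : cnt x 5 = 0 := by omega
    have h7 : cnt x 7 = 0 := by omega
    obtain ⟨a, hset⟩ := Finset.card_eq_one.1 h3
    have hval : ∀ j, (x j).natAbs = if j = a then 3 else 1 := by
      intro j
      have h7 := abs_le_of_norm hn (by norm_num) j
      have h8 := odd_not_dvd ho j
      have h9 : (x j).natAbs = 1 ∨ (x j).natAbs = 3 ∨ (x j).natAbs = 5 ∨ (x j).natAbs = 7 := by omega
      have h10 : j ∈ (Finset.univ.filter fun i => (x i).natAbs = 3) ↔ j = a := by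
        rw [hset, Finset.mem_singleton]
      rw [Finset.mem_filter] at h10
      simp only [Finset.mem_univ, true_and] at h10
      split_ifs with hj
      · exact h10.2 hj
      · have h11 : (x j).natAbs ≠ 3 := fun h => hj (h10.1 h)
        rcases h9 with h | h | h | h
        · exact h
        · exact absurd h h11
        · have := le_cnt x j h; omega
        · have := le_cnt x j h; omega
    obtain ⟨c, hc, hc4, hcs⟩ := odd_normalise ho
    have hmem : support₂ c ∈ supports (golayCode : Set (GolayPt → ZMod 2)) := ⟨c, hc, rfl⟩
    obtain ⟨n, hn', hen⟩ := Golay.inCode_iff.1 (Golay.mem_supports_iff.1 hmem)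
    unfold L3
    rw [List.mem_flatMap]
    refine ⟨n, List.mem_range.2 hn', ?_⟩
    rw [List.mem_map]
    refine ⟨Golay.idx a, List.mem_range.2 (Golay.idx_lt a), ?_⟩
    funext p
    unfold oddV
    rw [hen, Golay.testBit_maskOf]
    have h1 := hc4 p
    have h2 := hval p
    unfold flip at h1
    have h12 : (decide (p ∈ support₂ c) = true) ↔ c p ≠ 0 := by
      simp [support₂]
    have h13 : Golay.idx p = Golay.idx a ↔ p = a := Golay.idx_inj
    rcases lift_zero_or_one c p with h9 | h9
    · have h14 := (lift_eq_zero_iff c p).1 h9
      rw [h9] at h1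
      rw [if_neg (by rw [h12]; simp [h14])]
      unfold Int.ModEq at h1
      by_cases hp : p = a
      · rw [if_pos (h13.2 hp)]; rw [if_pos hp] at h2; omega
      · rw [if_neg (fun h => hp (h13.1 h))]; rw [if_neg hp] at h2; omega
    · have h14 := (lift_eq_one_iff c p).1 h9
      rw [h9] at h1
      rw [if_pos (h12.2 h14)]
      unfold Int.ModEq at h1
      by_cases hp : p = a
      · rw [if_pos (h13.2 hp)]; rw [if_pos hp] at h2; omega
      · rw [if_neg (fun h => hp (h13.1 h))]; rw [if_neg hp] at h2; omega

theorem minSet_finite : {x : GolayPt → ℤ | x ∈ leechLattice ∧ sqNorm x = 32}.Finite := by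
  apply Set.finite_of_ncard_ne_zero
  rw [ncard_32]; norm_num

theorem minList_facts : minList.Nodup ∧ ∀ x, x ∈ minList ↔ x ∈ leechLattice ∧ sqNorm x = 32 := by
  classical
  have h1 : minSet_finite.toFinset ⊆ minList.toFinset := by
    intro x hx
    rw [Set.Finite.mem_toFinset] at hx
    exact List.mem_toFinset.2 (mem_minList hx.1 hx.2)
  have h2 : minSet_finite.toFinset.card = 196560 := by
    rw [← Set.ncard_eq_toFinset_card _ minSet_finite, ncard_32]
  have h3 := Finset.card_le_card h1
  have h4 : minList.toFinset.card ≤ minList.length := List.toFinset_card_le _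
  rw [length_minList] at h4
  have h5 : minList.toFinset.card = minList.length := by rw [length_minList]; omega
  constructor
  · exact Multiset.coe_nodup.1 (Multiset.toFinset_card_eq_card_iff_nodup.1 h5)
  · intro x
    have h6 := Finset.eq_of_subset_of_card_le h1 (by omega)
    rw [← List.mem_toFinset, ← h6, Set.Finite.mem_toFinset]
    rfl

theorem minList_nodup : minList.Nodup := minList_facts.1

theorem mem_minList_iff (x : GolayPt → ℤ) : x ∈ minList ↔ x ∈ leechLattice ∧ sqNorm x = 32 :=
  minList_facts.2 x

/-- Counting minimal vectors with a property. -/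
theorem ncard_min (P : (GolayPt → ℤ) → Bool) :
    {x : GolayPt → ℤ | x ∈ leechLattice ∧ sqNorm x = 32 ∧ P x = true}.ncard = minList.countP P := by
  classical
  rw [List.countP_eq_length_filter, ← List.toFinset_card_of_nodup (minList_nodup.filter _),
    ← Set.ncard_coe_finset]
  congr 1
  ext x
  rw [Finset.mem_coe, List.mem_toFinset, List.mem_filter, mem_minList_iff]
  constructor
  · rintro ⟨h1, h2, h3⟩; exact ⟨⟨h1, h2⟩, h3⟩
  · rintro ⟨⟨h1, h2⟩, h3⟩; exact ⟨h1, h2, h3⟩

end Cfsg.Agent.Leech
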