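import Cfsg.Agent.Leech.Bfs
import Cfsg.Agent.Leech.Orders

/-!
# Orbits on configurations: general lemmas
-/

set_option autoImplicit false

namespace Cfsg.Agent.Leech

open Cfsg

theorem min_finite : {x : leechLattice | sqNorm (x : GolayPt → ℤ) = 32}.Finite := by
  apply Set.finite_of_ncard_ne_zero
  rw [ncard_lattice (fun x => sqNorm x = 32), ncard_32]
  norm_num

/-- A finite set containing disjoint sets of total size at least its own is their union. -/
theorem partition {α ι : Type*} [Fintype ι] (T : Set α) (hfin : T.Finite) (O : ι → Set α) (n : ι → ℕ) (f : α → ℤ)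
    (t : ι → ℤ) (ht : Function.Injective t) (hO : ∀ i, O i ⊆ T) (hf : ∀ i, ∀ y ∈ O i, f y = t i)
    (hn : ∀ i, n i ≤ (O i).ncard) (hT : T.ncard = ∑ i, n i) :
    (∀ i, (O i).ncard = n i) ∧ ∀ y ∈ T, ∃ i, y ∈ O i := by
  classical
  have hOf : ∀ i, (O i).Finite := fun i => hfin.subset (hO i)
  set Of : ι → Finset α := fun i => (hOf i).toFinset with hOfd
  have hcard : ∀ i, (Of i).card = (O i).ncard := fun i => (Set.ncard_eq_toFinset_card (O i) (hOf i)).symm
  have hdisj : ∀ i ∈ (Finset.univ : Finset ι), ∀ j ∈ (Finset.univ : Finset ι), i ≠ j → Disjoint (Of i) (Of j) := by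
    intro i _ j _ hij
    rw [Finset.disjoint_left]
    intro y h1 h2
    rw [hOfd, Set.Finite.mem_toFinset] at h1 h2
    exact hij (ht ((hf i y h1).symm.trans (hf j y h2)))
  have hU : (Finset.univ.biUnion Of).card = ∑ i, (Of i).card := Finset.card_biUnion hdisj
  have hsub : Finset.univ.biUnion Of ⊆ hfin.toFinset := by
    intro y hy
    rw [Finset.mem_biUnion] at hy
    obtain ⟨i, -, h1⟩ := hy
    rw [hOfd, Set.Finite.mem_toFinset] at h1
    rw [Set.Finite.mem_toFinset]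
    exact hO i h1
  have hle := Finset.card_le_card hsub
  rw [hU, ← Set.ncard_eq_toFinset_card T hfin, hT] at hle
  have hge : ∑ i, n i ≤ ∑ i, (Of i).card := Finset.sum_le_sum (fun i _ => by rw [hcard]; exact hn i)
  have heq : ∑ i, n i = ∑ i, (Of i).card := le_antisymm hge hle
  have heach := (Finset.sum_eq_sum_iff_of_le (fun i _ => by rw [hcard]; exact hn i)).1 heq
  refine ⟨fun i => by rw [← hcard]; exact (heach i (Finset.mem_univ i)).symm, ?_⟩
  intro y hy
  have hall : Finset.univ.biUnion Of = hfin.toFinset := by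
    apply Finset.eq_of_subset_of_card_le hsub
    rw [hU, ← heq, ← hT, Set.ncard_eq_toFinset_card T hfin]
  have h1 : y ∈ hfin.toFinset := by rwa [Set.Finite.mem_toFinset]
  rw [← hall, Finset.mem_biUnion] at h1
  obtain ⟨i, -, h2⟩ := h1
  rw [hOfd, Set.Finite.mem_toFinset] at h2
  exact ⟨i, h2⟩

theorem partition_class {α ι : Type*} [Fintype ι] {T : Set α} {O : ι → Set α} {f : α → ℤ}
    {t : ι → ℤ} (ht : Function.Injective t) (hO : ∀ i, O i ⊆ T) (hf : ∀ i, ∀ y ∈ O i, f y = t i)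
    (hall : ∀ y ∈ T, ∃ i, y ∈ O i) (i : ι) : {y | y ∈ T ∧ f y = t i} = O i := by
  ext y
  constructor
  · rintro ⟨h1, h2⟩
    obtain ⟨j, hj⟩ := hall y h1
    have := ht (h2.symm.trans (hf j y hj))
    rwa [this]
  · intro h
    exact ⟨hO i h, hf i y h⟩

/-- minimal vectors with two given dot products -/
def T3 (f1 f2 : leechLattice) (t1 t2 : ℤ) : Set leechLattice :=
  {x | sqNorm (x : GolayPt → ℤ) = 32 ∧ dotInt (f1 : GolayPt → ℤ) (x : GolayPt → ℤ) = t1 ∧
    dotInt (f2 : GolayPt → ℤ) (x : GolayPt → ℤ) = t2}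

theorem T3_finite (f1 f2 : leechLattice) (t1 t2 : ℤ) : (T3 f1 f2 t1 t2).Finite :=
  min_finite.subset (fun _ h => h.1)

theorem smul_mem_T3 (g : Co0) (f1 f2 x : leechLattice) (t1 t2 : ℤ) :
    x ∈ T3 f1 f2 t1 t2 ↔ g • x ∈ T3 (g • f1) (g • f2) t1 t2 := by
  unfold T3
  simp only [Set.mem_ofPred_eq]
  rw [co0_norm, co0_dot, co0_dot]

theorem T3_count (f1 f2 : leechLattice) (t1 t2 : ℤ) {g1 g2 : GolayPt → ℤ} (h1 : (f1 : GolayPt → ℤ) = g1)
    (h2 : (f2 : GolayPt → ℤ) = g2) {K : ℕ}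
    (h : {x : GolayPt → ℤ | x ∈ leechLattice ∧ sqNorm x = 32 ∧ dotInt g1 x = t1 ∧ dotInt g2 x = t2 ∧
      dotInt 0 x = 0}.ncard = K) : (T3 f1 f2 t1 t2).ncard = K := by
  rw [← h]
  unfold T3
  rw [h1, h2, ncard_lattice (fun x => sqNorm x = 32 ∧ dotInt g1 x = t1 ∧ dotInt g2 x = t2)]
  congr 1
  ext x
  simp only [Set.mem_ofPred_eq]
  have : dotInt 0 x = 0 := by simp [dotInt]
  rw [this]
  simp

/-- transitivity on a set from an orbit certificate -/
theorem orbit_eq_of_ge {S : Subgroup Co0} {x0 : leechLattice} {T : Set leechLattice} {N : ℕ} (hfin : T.Finite)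
    (hT : T.ncard = N) (hsub : MulAction.orbit S x0 ⊆ T) (hge : N ≤ (MulAction.orbit S x0).ncard) :
    MulAction.orbit S x0 = T :=
  Set.eq_of_subset_of_ncard_le hsub (by rw [hT]; exact hge) hfin

theorem orbit_subset_T3 {S : Subgroup Co0} {f1 f2 x0 : leechLattice} {t1 t2 : ℤ} (hx : x0 ∈ T3 f1 f2 t1 t2)
    (h1 : S ≤ MulAction.stabilizer Co0 f1) (h2 : S ≤ MulAction.stabilizer Co0 f2) :
    MulAction.orbit S x0 ⊆ T3 f1 f2 t1 t2 := by
  rintro y ⟨g, rfl⟩
  have e1 : (g : Co0) • f1 = f1 := h1 g.2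
  have e2 : (g : Co0) • f2 = f2 := h2 g.2
  have := (smul_mem_T3 (g : Co0) f1 f2 x0 t1 t2).1 hx
  rw [e1, e2] at this
  exact this

theorem orbit_subset_min {S : Subgroup Co0} {x0 : leechLattice} (hx : sqNorm (x0 : GolayPt → ℤ) = 32) :
    MulAction.orbit S x0 ⊆ {x : leechLattice | sqNorm (x : GolayPt → ℤ) = 32} := by
  rintro y ⟨g, rfl⟩
  show sqNorm (((g : Co0) • x0 : leechLattice) : GolayPt → ℤ) = 32
  rw [co0_norm, hx]

theorem orbit_dot {S : Subgroup Co0} {f x0 : leechLattice} (h : S ≤ MulAction.stabilizer Co0 f) {y : leechLattice}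
    (hy : y ∈ MulAction.orbit S x0) : dotInt (f : GolayPt → ℤ) (y : GolayPt → ℤ) = dotInt (f : GolayPt → ℤ) (x0 : GolayPt → ℤ) := by
  obtain ⟨g, rfl⟩ := hy
  have e1 : (g : Co0) • f = f := h g.2
  have := co0_dot (g : Co0) f x0
  rw [e1] at this
  exact this

theorem orbit_pair {S : Subgroup Co0} {x0 y y' : leechLattice} (h : y ∈ MulAction.orbit S x0) (h' : y' ∈ MulAction.orbit S x0) :
    ∃ g ∈ S, g • y = y' := by
  obtain ⟨g, rfl⟩ := h
  obtain ⟨g', rfl⟩ := h'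
  refine ⟨(g' : Co0) * (g : Co0)⁻¹, S.mul_mem g'.2 (S.inv_mem g.2), ?_⟩
  show ((g' : Co0) * (g : Co0)⁻¹) • ((g : Co0) • x0) = (g' : Co0) • x0
  rw [mul_smul, inv_smul_smul]

end Cfsg.Agent.Leech
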